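import Cfsg.Agent.Spor.Act

/-! Coset enumeration J1c0: generators abc of J1c over  (generated certificate, helper23). -/

set_option Elab.async false
set_option maxRecDepth 100000
set_option exponentiation.threshold 100000

namespace Cfsg.Agent.Spor.JJ1c0

open Equiv

def rels : List (List ℕ) := [[], [0, 0], [1, 1], [2, 2], [0, 1, 0, 1, 0, 1], [0, 2, 0, 2], [1, 2, 1, 2, 1, 2, 1, 2, 1, 2], [0, 1, 2, 0, 1, 2, 0, 1, 2, 0, 1, 2, 0, 1, 2]]

def subs : List (List ℕ) := []

noncomputable def tab : BT := (BT.leaf (nat_lit 0xff00000000000000))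

theorem pw0 : chkSteps (BT.get tab) 131328 3 rels subs
  [] 1 1 = true := by decide +kernel

def seeds : List Seed := []

theorem sd : chkSeeds (BT.get tab) 131328 3 1 seeds
  [] = true := by decide +kernel

theorem seedsOk {G X : Type*} [Group G] [MulAction G X] {g : ℕ → G} {x0 : X} (he : g 255 = 1)
    (hg : ∀ r ∈ rels, ev g r = 1) (hs : ∀ w ∈ subs, ev g w • x0 = x0) : ∀ s ∈ seeds, SeedOk g x0 s :=
  have h : PwHyp g x0 (BT.get tab) 131328 3 rels subs :=
    ⟨he, by decide +kernel, hg, hs, by decide +kernel⟩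
  chkSeeds_sound h (chkSteps_sound h (allF_one _ _ _) pw0) sd

noncomputable def n0 : Net :=
  Net.cons 1 (nat_lit 0x400554044411150) <|
  Net.cons 2 (nat_lit 0x122112122230010) <|
  Net.cons 4 (nat_lit 0x1030d00040100) <|
  Net.cons 8 (nat_lit 0x3007c00ad0000) <|
  Net.cons 16 (nat_lit 0x8d00006000) <|
  Net.cons 32 (nat_lit 0x8d6000) <|
  Net.cons 16 (nat_lit 0xfbd0000ed00) <|
  Net.cons 8 (nat_lit 0xc00a200df0030) <|
  Net.cons 4 (nat_lit 0xe0e0e01060c) <|
  Net.cons 2 (nat_lit 0x112122112012120) <|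
  Net.cons 1 (nat_lit 0x155001511144405) <|
  Net.nil

noncomputable def n1 : Net :=
  Net.cons 1 (nat_lit 0x550145041000510) <|
  Net.cons 2 (nat_lit 0x3003002112020) <|
  Net.cons 4 (nat_lit 0x90509040f00) <|
  Net.cons 8 (nat_lit 0x900d400870080) <|
  Net.cons 16 (nat_lit 0x170000c000) <|
  Net.cons 32 (nat_lit 0x17c000) <|
  Net.cons 16 (nat_lit 0xfb70000c780) <|
  Net.cons 8 (nat_lit 0x600a9007d00f8) <|
  Net.cons 4 (nat_lit 0x20e0f0c0b050a) <|
  Net.cons 2 (nat_lit 0x13003021221313) <|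
  Net.cons 1 (nat_lit 0x55440545400510) <|
  Net.nil

noncomputable def n2 : Net :=
  Net.cons 1 (nat_lit 0x510155000455110) <|
  Net.cons 2 (nat_lit 0x300120102012130) <|
  Net.cons 4 (nat_lit 0xb0b0508060908) <|
  Net.cons 8 (nat_lit 0x100d0000500a0) <|
  Net.cons 16 (nat_lit 0x70000e000) <|
  Net.cons 32 (nat_lit 0x7e000) <|
  Net.cons 16 (nat_lit 0x7b70000e5a0) <|
  Net.cons 8 (nat_lit 0xc00a8005f00b8) <|
  Net.cons 4 (nat_lit 0x30e040c09060e) <|
  Net.cons 2 (nat_lit 0x131322030312103) <|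
  Net.cons 1 (nat_lit 0x45400555100445) <|
  Net.nil

noncomputable def nets : List Net := [n0, n1, n2]

theorem ok : netsOk 60 nets = true := by decide +kernel

theorem id0 : ∀ r ∈ rels, ev (PP nets) r = 1 :=
  ev_eq_one_of_chkId (L := 6) ok (by decide) (by decide +kernel)

theorem hP : ∀ r ∈ rels, ev (PP nets) r = 1 := id0

noncomputable def K0 : ℕ := (joinL 60 [(nat_lit 0x198621844244242),
  (nat_lit 0x846198623122914),
  (nat_lit 0x621846198c994a8)])

theorem df : chkDef nets 60 0 rels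
  (joinL 60 [(nat_lit 0x198623122915),
  (nat_lit 0x846198c994ab),
  (nat_lit 0x511446366b57)])
  (nat_lit 0x100000002000000030000000200000001000000030000000200000001000000030000000200000001) 11 K0 = true := by decide +kernel

theorem dd0 : chkDed nets 60 0 rels seeds
  (nat_lit 0x600000004000000020000000a000008080000080c0000080a0000080e000000040000000e000000020000100e00000006) 13 K0 (ivl 0 180) = true := by decide +kernel

theorem est {G X : Type*} [Group G] [MulAction G X] {g : ℕ → G} {x0 : X} (he : g 255 = 1)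
    (hg : ∀ r ∈ rels, ev g r = 1) (hs : ∀ w ∈ subs, ev g w • x0 = x0) :
    ESt g nets 60 x0 0 (ivl 0 180) :=
  have h := seedsOk he hg hs
  have hb : 0 < 60 := by decide
  dedPhase_sound ok hb hg hP h dd0
    (defPhase_sound x0 ok hg hP df)

theorem fin : chkFin nets 60 0 (List.range 3) 0 60 (ivl 0 180) = true := by decide +kernel

theorem inv : chkInv rels (List.range 3) = true := by decide +kernel

theorem relIndex_le {G : Type*} [Group G] {g : ℕ → G} (he : g 255 = 1)
    (hg : ∀ r ∈ rels, ev g r = 1) {H : Subgroup G} (hs : ∀ w ∈ subs, ev g w ∈ H) :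
    H.relIndex (genL g (List.range 3)) ≠ 0 ∧ H.relIndex (genL g (List.range 3)) ≤ 60 :=
  relIndex_le_of_est ok hg inv fin (est he hg fun w hw => (smul_basePt_eq_iff H _).2 (hs w hw))

theorem mem {G : Type*} [Group G] {g : ℕ → G} (he : g 255 = 1)
    (hg : ∀ r ∈ rels, ev g r = 1) {φ : G →* Perm ℕ} (hφ : ∀ x < 3, φ (g x) = PP nets x) :
    ∀ a ∈ genL g (List.range 3), φ a 0 = 0 → a ∈ genW g subs := fun _ ha h =>
  mem_of_est ok hg inv fin (est he hg fun _ hw => (smul_basePt_eq_iff _ _).2 (mem_genW g hw)) φ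
    (fun x hx => hφ x (List.mem_range.1 hx)) ha h

end Cfsg.Agent.Spor.JJ1c0
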