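import Cfsg.Agent.Spor.Act

/-! Coset enumeration Fi24a: generators lkabcdefgjhi of Fi24 over a,b,c,d,e,f,g,h,i,j,l (generated certificate, helper23). -/

set_option Elab.async false
set_option maxRecDepth 100000
set_option exponentiation.threshold 100000

namespace Cfsg.Agent.Spor.JFi24a

open Equiv

def rels : List (List ℕ) := [[3, 5, 3, 5], [2, 5, 2, 5], [4, 10, 4, 10], [3, 10, 3, 10], [6, 10, 6, 10], [2, 10, 2, 10], [4, 6, 4, 6], [5, 7, 5, 7], [3, 6, 3, 6], [5, 11, 5, 11], [2, 6, 2, 6], [7, 10, 7, 10], [2, 4, 2, 4], [4, 7, 4, 7], [5, 10, 5, 10, 5, 10], [4, 5, 4, 5, 4, 5], [5, 6, 5, 6, 5, 6], [3, 7, 3, 7], [1, 5, 1, 5], [4, 11, 4, 11], [6, 11, 6, 11], [5, 8, 5, 8], [0, 5, 0, 5], [2, 7, 2, 7], [7, 11, 7, 11],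 [1, 10, 1, 10], [3, 11, 3, 11], [1, 4, 1, 4], [2, 11, 2, 11], [1, 6, 1, 6], [3, 4, 3, 4, 3, 4], [4, 8, 4, 8], [0, 6, 0, 6], [0, 10, 0, 10], [8, 10, 8, 10], [6, 8, 6, 8], [0, 4, 0, 4], [1, 3, 1, 3], [3, 8, 3, 8], [6, 7, 6, 7, 6, 7], [2, 3, 2, 3, 2, 3], [10, 11, 10, 11, 10, 11], [8, 11, 8, 11], [0, 3, 0, 3], [1, 7, 1, 7], [1, 11, 1, 11], [0, 7, 0, 7], [2, 8, 2, 8], [0, 11, 0, 11], [7, 7], [1, 2, 1, 2, 1, 2], [5, 9, 5, 9], [5, 5], [0, 2, 0, 2], [7, 8, 7, 8, 7, 8], [6, 6], [9, 10, 9, 10], [6, 9, 6, 9], [10, 10], [1, 8, 1, 8], [4, 4], [4, 9, 4, 9], [0, 8, 0, 8], [8, 8], [11, 11], [2, 2], [3, 3], [9, 11, 9, 11], [0, 1, 0, 1, 0, 1], [2, 9, 2, 9], [3, 9, 3, 9], [0, 0], [7, 9, 7, 9], [0, 10, 7, 6, 5, 4, 3, 2, 10, 7,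 6, 5, 4, 3, 2, 10, 7, 6, 5, 4, 3, 2, 10, 7, 6, 5, 4, 3, 2, 10, 7, 6, 5, 4, 3, 2, 10, 7, 6, 5, 4, 3, 2, 10, 7, 6, 5, 4, 3, 2, 10, 7, 6, 5, 4, 3, 2, 10, 7, 6, 5, 4, 3, 2], [1, 1], [1, 9, 1, 9], [0, 9, 0, 9], [], [9, 9], [8, 9, 8, 9, 8, 9], [5, 4, 3, 2, 1, 0, 5, 6, 7, 8, 9, 5, 10, 11, 5, 4, 3, 2, 1, 0, 5, 6, 7, 8, 9, 5, 10, 11, 5, 4, 3, 2, 1, 0, 5, 6, 7, 8, 9, 5, 10, 11, 5, 4, 3, 2, 1, 0, 5, 6, 7, 8, 9, 5, 10, 11, 5, 4, 3, 2, 1, 0, 5, 6, 7, 8, 9, 5, 10, 11, 5, 4, 3, 2, 1, 0, 5, 6, 7, 8, 9, 5, 10, 11, 5, 4, 3, 2, 1, 0, 5, 6, 7, 8, 9, 5, 10, 11, 5, 4, 3, 2, 1, 0, 5, 6, 7, 8, 9, 5, 10, 11, 5, 4, 3, 2, 1, 0, 5, 6, 7, 8, 9, 5, 10, 11, 5, 4, 3, 2, 1, 0, 5, 6, 7, 8, 9, 5, 10, 11, 5, 4, 3, 2, 1, 0, 5, 6, 7, 8, 9, 5, 10,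 11, 5, 4, 3, 2, 1, 0, 5, 6, 7, 8, 9, 5, 10, 11, 5, 4, 3, 2, 1, 0, 5, 6, 7, 8, 9, 5, 10, 11, 5, 4, 3, 2, 1, 0, 5, 6, 7, 8, 9, 5, 10, 11, 5, 4, 3, 2, 1, 0, 5, 6, 7, 8, 9, 5, 10, 11, 5, 4, 3, 2, 1, 0, 5, 6, 7, 8, 9, 5, 10, 11, 5, 4, 3, 2, 1, 0, 5, 6, 7, 8, 9, 5, 10, 11]]

def subs : List (List ℕ) := [[2], [3], [4], [5], [6], [7], [8], [10], [11], [9], [0]]

def seeds : List Seed := [([], 2, []), ([], 3, []), ([], 4, []), ([], 5, []), ([], 6, []), ([], 7, []), ([], 8, []), ([], 10, []), ([], 11, []), ([], 9, []), ([1, 0, 2, 3, 4, 5, 6, 10, 5, 4, 3, 2, 11, 10, 5], 6, [1, 2, 3, 4, 5, 6, 10, 5, 4, 3, 11, 10, 5, 4]), ([1, 0, 2, 1, 3, 4, 5, 6, 7, 8, 10, 5, 4, 6, 5, 7, 6, 11, 10, 5, 4, 3, 2], 1, [1, 0, 2, 3, 4, 5, 6,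 7, 8, 10, 5, 6, 7, 11, 10, 5, 4, 3, 6, 5, 10, 11])]

def rg0 : List (List ℕ) := [[3, 5, 3, 5], [2, 5, 2, 5], [4, 10, 4, 10], [3, 10, 3, 10], [6, 10, 6, 10], [2, 10, 2, 10], [4, 6, 4, 6], [5, 7, 5, 7], [3, 6, 3, 6], [5, 11, 5, 11], [2, 6, 2, 6], [7, 10, 7, 10], [2, 4, 2, 4], [4, 7, 4, 7], [5, 10, 5, 10, 5, 10], [4, 5, 4, 5, 4, 5], [5, 6, 5, 6, 5, 6], [3, 7, 3, 7], [1, 5, 1, 5], [4, 11, 4, 11], [6, 11, 6, 11], [5, 8, 5, 8], [0, 5, 0, 5], [2, 7, 2, 7], [7, 11, 7, 11], [1, 10, 1, 10], [3, 11, 3, 11], [1, 4, 1, 4], [2, 11, 2, 11], [1, 6, 1, 6], [3, 4, 3, 4, 3, 4], [4, 8, 4, 8], [0, 6, 0, 6], [0, 10, 0, 10], [8, 10, 8, 10], [6, 8, 6, 8], [0, 4, 0, 4], [1, 3, 1, 3], [3, 8, 3, 8], [6, 7, 6, 7, 6, 7], [2, 3, 2, 3, 2,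 3], [10, 11, 10, 11, 10, 11], [8, 11, 8, 11], [0, 3, 0, 3], [1, 7, 1, 7], [1, 11, 1, 11], [0, 7, 0, 7], [2, 8, 2, 8], [0, 11, 0, 11], [7, 7], [1, 2, 1, 2, 1, 2], [5, 9, 5, 9], [5, 5], [0, 2, 0, 2], [7, 8, 7, 8, 7, 8], [6, 6], [9, 10, 9, 10], [6, 9, 6, 9], [10, 10], [1, 8, 1, 8], [4, 4], [4, 9, 4, 9], [0, 8, 0, 8], [8, 8], [11, 11], [2, 2], [3, 3], [9, 11, 9, 11], [0, 1, 0, 1, 0, 1], [2, 9, 2, 9], [3, 9, 3, 9], [0, 0], [7, 9, 7, 9], [0, 10, 7, 6, 5, 4, 3, 2, 10, 7, 6, 5, 4, 3, 2, 10, 7, 6, 5, 4, 3, 2, 10, 7, 6, 5, 4, 3, 2, 10, 7, 6, 5, 4, 3, 2, 10, 7, 6, 5, 4, 3, 2, 10, 7, 6, 5, 4, 3, 2, 10, 7, 6, 5, 4, 3, 2, 10, 7, 6, 5, 4, 3, 2], [1, 1], [1, 9, 1, 9], [0, 9, 0, 9], [], [9, 9], [8, 9, 8, 9, 8, 9]]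

def rg1 : List (List ℕ) := [[5, 4, 3, 2, 1, 0, 5, 6, 7, 8, 9, 5, 10, 11, 5, 4, 3, 2, 1, 0, 5, 6, 7, 8, 9, 5, 10, 11, 5, 4, 3, 2, 1, 0, 5, 6, 7, 8, 9, 5, 10, 11, 5, 4, 3, 2, 1, 0, 5, 6, 7, 8, 9, 5, 10, 11, 5, 4, 3, 2, 1, 0, 5, 6, 7, 8, 9, 5, 10, 11, 5, 4, 3, 2, 1, 0, 5, 6, 7, 8, 9, 5, 10, 11, 5, 4, 3, 2, 1, 0, 5, 6, 7, 8, 9, 5, 10, 11, 5, 4, 3, 2, 1, 0, 5, 6, 7, 8, 9, 5, 10, 11, 5, 4, 3, 2, 1, 0, 5, 6, 7, 8, 9, 5, 10, 11, 5, 4, 3, 2, 1, 0, 5, 6, 7, 8, 9, 5, 10, 11, 5, 4, 3, 2, 1, 0, 5, 6, 7, 8, 9, 5, 10, 11, 5, 4, 3, 2, 1, 0, 5, 6, 7, 8, 9, 5, 10, 11, 5, 4, 3, 2, 1, 0, 5, 6, 7, 8, 9, 5, 10, 11, 5, 4, 3, 2, 1, 0, 5, 6, 7, 8, 9, 5, 10, 11, 5, 4, 3, 2, 1, 0, 5, 6, 7, 8, 9, 5, 10, 11, 5, 4, 3, 2, 1, 0, 5, 6, 7,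 8, 9, 5, 10, 11, 5, 4, 3, 2, 1, 0, 5, 6, 7, 8, 9, 5, 10, 11]]

end Cfsg.Agent.Spor.JFi24a
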