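import Cfsg.Agent.Spor.Act

/-! Coset enumeration J2m0: generators abc of J2m over  (generated certificate, helper23). -/

set_option Elab.async false
set_option maxRecDepth 100000
set_option exponentiation.threshold 100000

namespace Cfsg.Agent.Spor.JJ2m0

open Equiv

def rels : List (List ℕ) := [[], [0, 1], [1, 0], [2, 3], [3, 2], [4, 5], [5, 4], [2, 2, 2, 2], [4, 4, 4, 4], [0, 2, 1, 3], [0, 4, 1, 5], [0, 3, 4, 4, 3, 5, 5], [2, 4, 2, 4, 2, 4]]

def subs : List (List ℕ) := []

noncomputable def tab : BT := (BT.leaf (nat_lit 0xff00000000000000))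

theorem pw0 : chkSteps (BT.get tab) 4419555098625 6 rels subs
  [] 1 1 = true := by decide +kernel

def seeds : List Seed := []

theorem sd : chkSeeds (BT.get tab) 4419555098625 6 1 seeds
  [] = true := by decide +kernel

theorem seedsOk {G X : Type*} [Group G] [MulAction G X] {g : ℕ → G} {x0 : X} (he : g 255 = 1)
    (hg : ∀ r ∈ rels, ev g r = 1) (hs : ∀ w ∈ subs, ev g w • x0 = x0) : ∀ s ∈ seeds, SeedOk g x0 s :=
  have h : PwHyp g x0 (BT.get tab) 4419555098625 6 rels subs :=
    ⟨he, by decide +kernel, hg, hs, by decide +kernel⟩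
  chkSeeds_sound h (chkSteps_sound h (allF_one _ _ _) pw0) sd

noncomputable def n0 : Net :=
  Net.cons 1 (nat_lit 0x450000500100000000005054) <|
  Net.cons 2 (nat_lit 0x310313000000000000) <|
  Net.cons 4 (nat_lit 0xa09000e0808000407030400) <|
  Net.cons 8 (nat_lit 0x70030008200cb00000000) <|
  Net.cons 16 (nat_lit 0x2409000034cb00000000) <|
  Net.cons 32 (nat_lit 0x210fbbf) <|
  Net.cons 64 (nat_lit 0x8610fbbf) <|
  Net.cons 32 (nat_lit 0xb6dffbbf) <|
  Net.cons 16 (nat_lit 0xa404000034cf00004b00) <|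
  Net.cons 8 (nat_lit 0xa2003000630030003400b4) <|
  Net.cons 4 (nat_lit 0xa0908010005000008000b06) <|
  Net.cons 2 (nat_lit 0x100333021310003333003122) <|
  Net.cons 1 (nat_lit 0x105400055454000000000001) <|
  Net.nil

noncomputable def n1 : Net :=
  Net.cons 1 (nat_lit 0x400000500100000000000554) <|
  Net.cons 2 (nat_lit 0x23000230002000000000200) <|
  Net.cons 4 (nat_lit 0xf0703020b00000407000b00) <|
  Net.cons 8 (nat_lit 0x7c002000bc002000000000) <|
  Net.cons 16 (nat_lit 0x3020000020ff00000000) <|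
  Net.cons 32 (nat_lit 0x5c20ffcd) <|
  Net.cons 64 (nat_lit 0x5c20ffcd) <|
  Net.cons 32 (nat_lit 0x6cdfffcd) <|
  Net.cons 16 (nat_lit 0xa1000000ff00004b00) <|
  Net.cons 8 (nat_lit 0x8c0020007b00ff00a400b4) <|
  Net.cons 4 (nat_lit 0xf06000d0e0f00000808040c) <|
  Net.cons 2 (nat_lit 0x222200003100003333331301) <|
  Net.cons 1 (nat_lit 0x104000055454000000000001) <|
  Net.nil

noncomputable def n2 : Net :=
  Net.cons 1 (nat_lit 0x101151055445440414444044) <|
  Net.cons 2 (nat_lit 0x232310320011300022201210) <|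
  Net.cons 4 (nat_lit 0x306090f000a040409010600) <|
  Net.cons 8 (nat_lit 0x63002c0001009200810000) <|
  Net.cons 16 (nat_lit 0x4aec0000450800000000) <|
  Net.cons 32 (nat_lit 0x844a7) <|
  Net.cons 64 (nat_lit 0x1a4944a7) <|
  Net.cons 32 (nat_lit 0xb907b0a7) <|
  Net.cons 16 (nat_lit 0x3fee00001a50000045b4) <|
  Net.cons 8 (nat_lit 0xd20090001400610098000e) <|
  Net.cons 4 (nat_lit 0xc0c0d04010f000d09000d04) <|
  Net.cons 2 (nat_lit 0x200030020112332033012103) <|
  Net.cons 1 (nat_lit 0x150001004514044511405144) <|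
  Net.nil

noncomputable def n3 : Net :=
  Net.cons 1 (nat_lit 0x445514111051111004050400) <|
  Net.cons 2 (nat_lit 0x200131032212202131013210) <|
  Net.cons 4 (nat_lit 0x3030a060506030808000100) <|
  Net.cons 8 (nat_lit 0x2a008d001b002a00720000) <|
  Net.cons 16 (nat_lit 0x794f0000c6e400000000) <|
  Net.cons 32 (nat_lit 0x4004308b) <|
  Net.cons 64 (nat_lit 0x49c6308b) <|
  Net.cons 32 (nat_lit 0x18e9978b) <|
  Net.cons 16 (nat_lit 0x23e7000028d20000aef0) <|
  Net.cons 8 (nat_lit 0xba007000ab000e009700f6) <|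
  Net.cons 4 (nat_lit 0x405080e00060f0709050d05) <|
  Net.cons 2 (nat_lit 0x222320000331320210311002) <|
  Net.cons 1 (nat_lit 0x14000501110015141501401) <|
  Net.nil

noncomputable def n4 : Net :=
  Net.cons 1 (nat_lit 0x145545454144041101544000) <|
  Net.cons 2 (nat_lit 0x331232113022023300223100) <|
  Net.cons 4 (nat_lit 0x608020e0d03060000040200) <|
  Net.cons 8 (nat_lit 0xb0008006000f7008e0000) <|
  Net.cons 16 (nat_lit 0x1e620000e8f800000000) <|
  Net.cons 32 (nat_lit 0x8a406691) <|
  Net.cons 64 (nat_lit 0xdbee6691) <|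
  Net.cons 32 (nat_lit 0xc3bf8591) <|
  Net.cons 16 (nat_lit 0xfb2f0000140e0000e6b8) <|
  Net.cons 8 (nat_lit 0x5600cd00d80039008100be) <|
  Net.cons 4 (nat_lit 0xc0f0203040e0e0b06010405) <|
  Net.cons 2 (nat_lit 0x31111102201210122230223) <|
  Net.cons 1 (nat_lit 0x155041411551111455141510) <|
  Net.nil

noncomputable def n5 : Net :=
  Net.cons 1 (nat_lit 0x155044411551111515141510) <|
  Net.cons 2 (nat_lit 0x302221231132123211103110) <|
  Net.cons 4 (nat_lit 0x206090d080a0b0a00010000) <|
  Net.cons 8 (nat_lit 0x2300cc001000fd000e0000) <|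
  Net.cons 16 (nat_lit 0x784f00000c7900000000) <|
  Net.cons 32 (nat_lit 0xa8c0a635) <|
  Net.cons 64 (nat_lit 0xf9cba635) <|
  Net.cons 32 (nat_lit 0xe1be4135) <|
  Net.cons 16 (nat_lit 0xcffb000010820000a6b8) <|
  Net.cons 8 (nat_lit 0xf5003800eb000f00c1003e) <|
  Net.cons 4 (nat_lit 0x80b010a030d080901000c05) <|
  Net.cons 2 (nat_lit 0x2101220311310033110233) <|
  Net.cons 1 (nat_lit 0x105145454144041105544100) <|
  Net.nil

noncomputable def nets : List Net := [n0, n1, n2, n3, n4, n5]

theorem ok : netsOk 96 nets = true := by decide +kernel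

theorem id0 : ∀ r ∈ rels, ev (PP nets) r = 1 :=
  ev_eq_one_of_chkId (L := 7) ok (by decide) (by decide +kernel)

theorem hP : ∀ r ∈ rels, ev (PP nets) r = 1 := id0

noncomputable def K0 : ℕ := (joinL 96 [(nat_lit 0x4),
  (nat_lit 0x82),
  (nat_lit 0x28124008252240900a402210),
  (nat_lit 0xc56121145291214845211108),
  (nat_lit 0x414428008140520148840),
  (nat_lit 0x12888aa108448a22908a4420)])

theorem df : chkDef nets 96 0 rels
  (joinL 96 [(nat_lit 0x3),
  (nat_lit 0x1),
  (nat_lit 0x40800226035beddef),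
  (nat_lit 0x408004309ecce7),
  (nat_lit 0x409009f4b77bf),
  (nat_lit 0x4d61339f)])
  (nat_lit 0x1000000030000000500000003000000060000000400000005000000030000000600000004000000030000000500000001000000030000000500000003000000040000000600000005000000020000000300000004000000050000000300000005000000060000000400000003) 28 K0 = true := by decide +kernel

theorem dd0 : chkDed nets 96 0 rels seeds
  (nat_lit 0x60000000a000008060000080a0000000e00000806000000100000080a00000002000008020000001200000802000010120000000200000014000008020000101400000002000008180000080a0000001600000802000018160000080a000010120000000200000012000008020000101400000002000000100000080a000028160000000a000000120000080200001812000000060000001400000802000008160000000600001012000000020000101400000002000010160000080a0000001800000806000008140000080a0000000e000008060000001200000802000008180000080a0000001400000802000010140000000200002016000000060000001600000802000000100000080a0000001200000802000008140000080a00001812000000060000000e000008060000001200000802000008180000080a)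 80 K0 (ivl 0 576) = true := by decide +kernel

theorem est {G X : Type*} [Group G] [MulAction G X] {g : ℕ → G} {x0 : X} (he : g 255 = 1)
    (hg : ∀ r ∈ rels, ev g r = 1) (hs : ∀ w ∈ subs, ev g w • x0 = x0) :
    ESt g nets 96 x0 0 (ivl 0 576) :=
  have h := seedsOk he hg hs
  have hb : 0 < 96 := by decide
  dedPhase_sound ok hb hg hP h dd0
    (defPhase_sound x0 ok hg hP df)

theorem fin : chkFin nets 96 0 (List.range 6) 0 96 (ivl 0 576) = true := by decide +kernel

theorem inv : chkInv rels (List.range 6) = true := by decide +kernel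

theorem relIndex_le {G : Type*} [Group G] {g : ℕ → G} (he : g 255 = 1)
    (hg : ∀ r ∈ rels, ev g r = 1) {H : Subgroup G} (hs : ∀ w ∈ subs, ev g w ∈ H) :
    H.relIndex (genL g (List.range 6)) ≠ 0 ∧ H.relIndex (genL g (List.range 6)) ≤ 96 :=
  relIndex_le_of_est ok hg inv fin (est he hg fun w hw => (smul_basePt_eq_iff H _).2 (hs w hw))

theorem mem {G : Type*} [Group G] {g : ℕ → G} (he : g 255 = 1)
    (hg : ∀ r ∈ rels, ev g r = 1) {φ : G →* Perm ℕ} (hφ : ∀ x < 6, φ (g x) = PP nets x) :
    ∀ a ∈ genL g (List.range 6), φ a 0 = 0 → a ∈ genW g subs := fun _ ha h =>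
  mem_of_est ok hg inv fin (est he hg fun _ hw => (smul_basePt_eq_iff _ _).2 (mem_genW g hw)) φ
    (fun x hx => hφ x (List.mem_range.1 hx)) ha h

end Cfsg.Agent.Spor.JJ2m0
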