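import Cfsg.Agent.Spor.Act

/-! Coset enumeration J2m1: generators abcd of J2m over a,b,c (generated certificate, helper23). -/

set_option Elab.async false
set_option maxRecDepth 100000
set_option exponentiation.threshold 100000

namespace Cfsg.Agent.Spor.JJ2m1

open Equiv

def rels : List (List ℕ) := [[], [0, 1], [1, 0], [2, 3], [3, 2], [4, 5], [5, 4], [6, 6], [2, 2, 2, 2], [4, 4, 4, 4], [0, 2, 1, 3], [0, 4, 1, 5], [0, 3, 4, 4, 3, 5, 5], [2, 4, 2, 4, 2, 4], [6, 0, 6, 3, 0], [6, 5, 3, 3, 5, 6, 2, 0], [6, 4, 6, 5, 6, 5, 6, 3, 4, 6, 5, 6, 2, 4], [4, 4, 6, 4, 4, 6, 4, 4, 6]]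

def subs : List (List ℕ) := [[0], [2], [4]]

noncomputable def tab : BT := (BT.leaf (nat_lit 0x40000000000000002000000000000000000000000000000ff00000000000000))

theorem pw0 : chkSteps (BT.get tab) 1693269415362561 7 rels subs
  [(nat_lit 0x2),
  (nat_lit 0x6),
  (nat_lit 0xa)] 1 4 = true := by decide +kernel

def seeds : List Seed := [([], 0, []), ([], 2, []), ([], 4, [])]

theorem sd : chkSeeds (BT.get tab) 1693269415362561 7 4 seeds
  [(nat_lit 0x200000001),
  (nat_lit 0x400000001),
  (nat_lit 0x600000001)] = true := by decide +kernel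

theorem seedsOk {G X : Type*} [Group G] [MulAction G X] {g : ℕ → G} {x0 : X} (he : g 255 = 1)
    (hg : ∀ r ∈ rels, ev g r = 1) (hs : ∀ w ∈ subs, ev g w • x0 = x0) : ∀ s ∈ seeds, SeedOk g x0 s :=
  have h : PwHyp g x0 (BT.get tab) 1693269415362561 7 rels subs :=
    ⟨he, by decide +kernel, hg, hs, by decide +kernel⟩
  chkSeeds_sound h (chkSteps_sound h (allF_one _ _ _) pw0) sd

noncomputable def n0 : Net :=
  Net.cons 1 (nat_lit 0x541110500154500) <|
  Net.cons 2 (nat_lit 0x203220332111000) <|
  Net.cons 4 (nat_lit 0x8000c00060800) <|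
  Net.cons 8 (nat_lit 0x40008400e80000) <|
  Net.cons 16 (nat_lit 0xdc00000000) <|
  Net.cons 32 (nat_lit 0xdc0000) <|
  Net.cons 16 (nat_lit 0x425c00006800) <|
  Net.cons 8 (nat_lit 0x3d003900eb0080) <|
  Net.cons 4 (nat_lit 0x40b090b03060c00) <|
  Net.cons 2 (nat_lit 0x32223133212200) <|
  Net.cons 1 (nat_lit 0x405010144145400) <|
  Net.nil

noncomputable def n1 : Net :=
  Net.cons 1 (nat_lit 0x405010140145400) <|
  Net.cons 2 (nat_lit 0x32223133210200) <|
  Net.cons 4 (nat_lit 0x2080f0c07020800) <|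
  Net.cons 8 (nat_lit 0x1800ac0000) <|
  Net.cons 16 (nat_lit 0x5c00000000) <|
  Net.cons 32 (nat_lit 0xdc0000) <|
  Net.cons 16 (nat_lit 0x24dc00002c00) <|
  Net.cons 8 (nat_lit 0x5f00c300af0080) <|
  Net.cons 4 (nat_lit 0x30e070a04020c00) <|
  Net.cons 2 (nat_lit 0x203220332131000) <|
  Net.cons 1 (nat_lit 0x541110540154500) <|
  Net.nil

noncomputable def n2 : Net :=
  Net.cons 1 (nat_lit 0x451100510151040) <|
  Net.cons 2 (nat_lit 0x13012120212130) <|
  Net.cons 4 (nat_lit 0x204040200000100) <|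
  Net.cons 8 (nat_lit 0x4004000800000) <|
  Net.cons 16 (nat_lit 0x124000000000) <|
  Net.cons 32 (nat_lit 0x12400000) <|
  Net.cons 16 (nat_lit 0x1e480000e900) <|
  Net.cons 8 (nat_lit 0x7400a1008c0010) <|
  Net.cons 4 (nat_lit 0x4030a000002090c) <|
  Net.cons 2 (nat_lit 0x113120321002030) <|
  Net.cons 1 (nat_lit 0x11544110104144) <|
  Net.nil

noncomputable def n3 : Net :=
  Net.cons 1 (nat_lit 0x11544110100140) <|
  Net.cons 2 (nat_lit 0x113120321002030) <|
  Net.cons 4 (nat_lit 0x7000a0008000100) <|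
  Net.cons 8 (nat_lit 0x4000000880000) <|
  Net.cons 16 (nat_lit 0x124000000000) <|
  Net.cons 32 (nat_lit 0x12400000) <|
  Net.cons 16 (nat_lit 0x1e480000e900) <|
  Net.cons 8 (nat_lit 0x4700e1000c0010) <|
  Net.cons 4 (nat_lit 0x1070402080a010c) <|
  Net.cons 2 (nat_lit 0x13012120212130) <|
  Net.cons 1 (nat_lit 0x451100550151050) <|
  Net.nil

noncomputable def n4 : Net :=
  Net.cons 1 (nat_lit 0x54001001405000) <|
  Net.cons 2 (nat_lit 0x122303131102200) <|
  Net.cons 4 (nat_lit 0x6080c0a09030000) <|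
  Net.cons 8 (nat_lit 0x4000cc00160000) <|
  Net.cons 16 (nat_lit 0x82400000000) <|
  Net.cons 32 (nat_lit 0x8a44000) <|
  Net.cons 16 (nat_lit 0x1aff00005600) <|
  Net.cons 8 (nat_lit 0x4c00c400ce0080) <|
  Net.cons 4 (nat_lit 0x4020e0402030b04) <|
  Net.cons 2 (nat_lit 0x33210121010002) <|
  Net.cons 1 (nat_lit 0x4001105051104) <|
  Net.nil

noncomputable def n5 : Net :=
  Net.cons 1 (nat_lit 0x4501145414104) <|
  Net.cons 2 (nat_lit 0x133102123122000) <|
  Net.cons 4 (nat_lit 0x602040000000800) <|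
  Net.cons 8 (nat_lit 0xc00a10000) <|
  Net.cons 16 (nat_lit 0x48c00008000) <|
  Net.cons 32 (nat_lit 0x48c8000) <|
  Net.cons 16 (nat_lit 0x3d1f0000b500) <|
  Net.cons 8 (nat_lit 0xc008000170080) <|
  Net.cons 4 (nat_lit 0x4080e060d080604) <|
  Net.cons 2 (nat_lit 0x22313313022302) <|
  Net.cons 1 (nat_lit 0x1054000014505100) <|
  Net.nil

noncomputable def n6 : Net :=
  Net.cons 1 (nat_lit 0x1045100414100540) <|
  Net.cons 2 (nat_lit 0x3320100200200) <|
  Net.cons 4 (nat_lit 0x8010a01000300) <|
  Net.cons 8 (nat_lit 0x2002400c00080) <|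
  Net.cons 16 (nat_lit 0x1c6f00008000) <|
  Net.cons 32 (nat_lit 0x1cefc080) <|
  Net.cons 16 (nat_lit 0x1f6f0000c700) <|
  Net.cons 8 (nat_lit 0x6e006000b400b8) <|
  Net.cons 4 (nat_lit 0x80d0e06040704) <|
  Net.cons 2 (nat_lit 0x3120102000200) <|
  Net.cons 1 (nat_lit 0x1045110405001541) <|
  Net.nil

noncomputable def nets : List Net := [n0, n1, n2, n3, n4, n5, n6]

theorem ok : netsOk 63 nets = true := by decide +kernel

theorem id0 : ∀ r ∈ rels, ev (PP nets) r = 1 :=
  ev_eq_one_of_chkId (L := 6) ok (by decide) (by decide +kernel)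

theorem hP : ∀ r ∈ rels, ev (PP nets) r = 1 := id0

noncomputable def K0 : ℕ := (joinL 63 [(nat_lit 0x40000000000),
  (nat_lit 0x1220000000000),
  (nat_lit 0x89100020),
  (nat_lit 0x800000044880010),
  (nat_lit 0x7136000000055008),
  (nat_lit 0x6c848121022a844),
  (nat_lit 0x91ed22400782)])

theorem df : chkDef nets 63 0 rels
  (joinL 63 [(nat_lit 0x22400000),
  (nat_lit 0x400000),
  (nat_lit 0x80000007804),
  (nat_lit 0x7804),
  (nat_lit 0x6c40242af86),
  (nat_lit 0x1912920000782),
  (nat_lit 0x49ff83d)])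
  (nat_lit 0x70000000500000003000000070000000500000006000000070000000500000003000000040000000700000006000000010000000500000007000000060000000500000002000000030000000400000005) 21 K0 = true := by decide +kernel

theorem dd0 : chkDed nets 63 0 rels seeds
  (nat_lit 0x100000003000000050000000a0000000e0000080a00000006000008060000000200000802000000120000080a00001016000000020000102200000016000008020000081c00000802000000160000080200001016000000020000181c000000060000101e000000060000001400000802000000100000080600000016000008020000181e000000060000081c000008020000081a0000080a000000160000080200001016000000020000181c0000000600000010000008060000001400000802000010140000000200000016000008020000081c0000080200002018000000060000081a0000080a0000101c0000000e0000181c0000000600000814000008060000001600000802000008160000080a0000081c0000080200001016000000020000001c0000000e0000001000000806000008140000080600000016000008020000081c0000080200001016000000020000101e00000006000000200000000e000008200000080a00001020000018200000000a000028200000000a00004820000000120000080a000008160000080a000018160000000a000008180000000600001022000008160000080a00001814000000060000101c0000000e00002018000000060000001400000802000008160000080a)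 118 K0 (ivl 0 441) = true := by decide +kernel

theorem est {G X : Type*} [Group G] [MulAction G X] {g : ℕ → G} {x0 : X} (he : g 255 = 1)
    (hg : ∀ r ∈ rels, ev g r = 1) (hs : ∀ w ∈ subs, ev g w • x0 = x0) :
    ESt g nets 63 x0 0 (ivl 0 441) :=
  have h := seedsOk he hg hs
  have hb : 0 < 63 := by decide
  dedPhase_sound ok hb hg hP h dd0
    (defPhase_sound x0 ok hg hP df)

theorem fin : chkFin nets 63 0 (List.range 7) 0 63 (ivl 0 441) = true := by decide +kernel

theorem inv : chkInv rels (List.range 7) = true := by decide +kernel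

theorem relIndex_le {G : Type*} [Group G] {g : ℕ → G} (he : g 255 = 1)
    (hg : ∀ r ∈ rels, ev g r = 1) {H : Subgroup G} (hs : ∀ w ∈ subs, ev g w ∈ H) :
    H.relIndex (genL g (List.range 7)) ≠ 0 ∧ H.relIndex (genL g (List.range 7)) ≤ 63 :=
  relIndex_le_of_est ok hg inv fin (est he hg fun w hw => (smul_basePt_eq_iff H _).2 (hs w hw))

theorem mem {G : Type*} [Group G] {g : ℕ → G} (he : g 255 = 1)
    (hg : ∀ r ∈ rels, ev g r = 1) {φ : G →* Perm ℕ} (hφ : ∀ x < 7, φ (g x) = PP nets x) :
    ∀ a ∈ genL g (List.range 7), φ a 0 = 0 → a ∈ genW g subs := fun _ ha h =>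
  mem_of_est ok hg inv fin (est he hg fun _ hw => (smul_basePt_eq_iff _ _).2 (mem_genW g hw)) φ
    (fun x hx => hφ x (List.mem_range.1 hx)) ha h

end Cfsg.Agent.Spor.JJ2m1
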