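import Cfsg.Agent.Spor.Act

/-! 3.J3 on the cosets of 2^{1+4}:A5 (generated certificate, helper23). -/

set_option Elab.async false
set_option maxRecDepth 100000
set_option exponentiation.threshold 100000

namespace Cfsg.Agent.Spor.JHJ3

open Equiv

def rels : List (List ℕ) := [[1, 8, 0, 7], [6, 3, 4, 3], [3, 0, 3, 0], [7, 6, 7, 6], [2, 8, 1, 2, 0, 7], [4, 8, 5, 7], [4, 5, 8, 4, 7], [3, 5, 3, 5], [4, 2, 4, 2], [2, 5, 2, 5], [2, 0, 2, 0, 2, 0], [7, 7, 7], [6, 1, 6, 0], [3, 2, 3, 2, 3, 2], [0, 0, 0], [6, 5, 6, 5], [4, 6, 2, 6, 2, 1, 1, 2, 6, 2, 0, 2, 6, 2, 0], [6, 4, 6, 4, 5], [1, 5, 0, 5], [4, 1, 4, 0], [3, 8, 3, 7, 3, 8, 3, 7, 3, 8, 3, 7, 3, 8, 3, 7], [6, 6], [4, 5, 4, 5], [2, 2], [3, 3], [8, 7], [3, 7, 3, 7, 3, 7, 3, 7, 3, 7, 3, 7, 3, 7, 3, 7, 3, 7, 3, 7], [4, 4], [5, 5], [1, 0], [], [0, 1], [7, 8]]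

def subs : List (List ℕ) := [[0], [2], [3], [4], [5], [6]]

def seeds : List Seed := [([], 0, []), ([], 2, []), ([], 3, []), ([], 4, []), ([8, 3, 8, 3, 7, 3, 2, 3, 7, 3, 8, 3, 8, 3, 7, 2, 3, 7, 3, 7, 3], 8, [])]

end Cfsg.Agent.Spor.JHJ3
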