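import Cfsg.Agent.Spor.Act
import Cfsg.Agent.Spor.J.HJ3N0
import Cfsg.Agent.Spor.J.HJ3D0

/-! 3.J3 on the cosets of 2^{1+4}:A5 (generated certificate, helper23). -/

set_option Elab.async false
set_option maxRecDepth 100000
set_option exponentiation.threshold 100000

namespace Cfsg.Agent.Spor.JHJ3

open Equiv

theorem pl0_0 : allL [0, 1, 2, 3, 4, 5, 6, 7, 8, 9, 10] (chkPl nets 78489 17 rels) = true := by decide +kernel

theorem pl0_11 : allL [11, 12, 13, 14, 15, 16] (chkPl nets 78489 17 rels) = true := by decide +kernel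

end Cfsg.Agent.Spor.JHJ3
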