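import Cfsg.Agent.Spor.Act
import Cfsg.Agent.Spor.J.HJ3P0
import Cfsg.Agent.Spor.J.HJ3D0
import Cfsg.Agent.Spor.J.HJ3R0
import Cfsg.Agent.Spor.J.HJ3S0

/-! 3.J3 on the cosets of 2^{1+4}:A5 (generated certificate, helper23). -/

set_option Elab.async false
set_option maxRecDepth 100000
set_option exponentiation.threshold 100000

namespace Cfsg.Agent.Spor.JHJ3

open Equiv

theorem seedsOk {G X : Type*} [Group G] [MulAction G X] {g : ℕ → G} {x0 : X} (he : g 255 = 1)
    (hg : ∀ r ∈ rels, ev g r = 1) (hs : ∀ w ∈ subs, ev g w • x0 = x0) : ∀ s ∈ seeds, SeedOk g x0 s :=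
  have h : PwHyp g x0 (BT.get tab) 129705363632919019521 9 rels subs :=
    ⟨he, by decide +kernel, hg, hs, by decide +kernel⟩
  chkSeeds_sound h (chkSteps_sound h (chkSteps_sound h (chkSteps_sound h (chkSteps_sound h (allF_one _ _ _) pw0) pw1) pw2) pw3) sd

theorem id0 : ∀ r ∈ rels, ev (PP nets) r = 1 := by
  refine ev_eq_one_of_planes (L := 17) ok (by decide) fun p hp => ?_
  interval_cases p
  · exact allL_spec pl0_0 _ (by decide)
  · exact allL_spec pl0_0 _ (by decide)
  · exact allL_spec pl0_0 _ (by decide)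
  · exact allL_spec pl0_0 _ (by decide)
  · exact allL_spec pl0_0 _ (by decide)
  · exact allL_spec pl0_0 _ (by decide)
  · exact allL_spec pl0_0 _ (by decide)
  · exact allL_spec pl0_0 _ (by decide)
  · exact allL_spec pl0_0 _ (by decide)
  · exact allL_spec pl0_0 _ (by decide)
  · exact allL_spec pl0_0 _ (by decide)
  · exact allL_spec pl0_11 _ (by decide)
  · exact allL_spec pl0_11 _ (by decide)
  · exact allL_spec pl0_11 _ (by decide)
  · exact allL_spec pl0_11 _ (by decide)
  · exact allL_spec pl0_11 _ (by decide)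
  · exact allL_spec pl0_11 _ (by decide)

theorem hP : ∀ r ∈ rels, ev (PP nets) r = 1 := id0

theorem est {G X : Type*} [Group G] [MulAction G X] {g : ℕ → G} {x0 : X} (he : g 255 = 1)
    (hg : ∀ r ∈ rels, ev g r = 1) (hs : ∀ w ∈ subs, ev g w • x0 = x0) :
    ESt g nets 78489 x0 78444 (ivl 0 706401) :=
  have h := seedsOk he hg hs
  have hb : 78444 < 78489 := by decide
  dedPhase_sound ok hb hg hP h dd4
    (dedPhase_sound ok hb hg hP h dd3
    (dedPhase_sound ok hb hg hP h dd2
    (dedPhase_sound ok hb hg hP h dd1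
    (dedPhase_sound ok hb hg hP h dd0
    (defPhase_sound x0 ok hg hP df)))))

theorem fin : chkFin nets 78489 78444 (List.range 9) 0 78489 (ivl 0 706401) = true := by decide +kernel

theorem inv : chkInv rels (List.range 9) = true := by decide +kernel

theorem relIndex_le {G : Type*} [Group G] {g : ℕ → G} (he : g 255 = 1)
    (hg : ∀ r ∈ rels, ev g r = 1) {H : Subgroup G} (hs : ∀ w ∈ subs, ev g w ∈ H) :
    H.relIndex (genL g (List.range 9)) ≠ 0 ∧ H.relIndex (genL g (List.range 9)) ≤ 78489 :=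
  relIndex_le_of_est ok hg inv fin (est he hg fun w hw => (smul_basePt_eq_iff H _).2 (hs w hw))

theorem mem {G : Type*} [Group G] {g : ℕ → G} (he : g 255 = 1)
    (hg : ∀ r ∈ rels, ev g r = 1) {φ : G →* Perm ℕ} (hφ : ∀ x < 9, φ (g x) = PP nets x) :
    ∀ a ∈ genL g (List.range 9), φ a 78444 = 78444 → a ∈ genW g subs := fun _ ha h =>
  mem_of_est ok hg inv fin (est he hg fun _ hw => (smul_basePt_eq_iff _ _).2 (mem_genW g hw)) φ
    (fun x hx => hφ x (List.mem_range.1 hx)) ha h

end Cfsg.Agent.Spor.JHJ3
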