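import Cfsg.Agent.Spor.Act

/-! Regular representation of 2^{1+4} (generated certificate, helper23). -/

set_option Elab.async false
set_option maxRecDepth 100000
set_option exponentiation.threshold 100000

namespace Cfsg.Agent.Spor.JHJq

open Equiv

def rels : List (List ℕ) := [[], [0, 0], [1, 1], [2, 2], [3, 3], [4, 4], [5, 5], [5, 1, 0, 1, 0], [5, 2, 0, 2, 0], [5, 3, 0, 3, 0], [5, 4, 0, 4, 0], [5, 2, 1, 2, 1], [5, 3, 1, 3, 1], [5, 4, 1, 4, 1], [5, 3, 2, 3, 2], [5, 4, 2, 4, 2], [5, 4, 3, 4, 3], [5, 0, 5, 0], [5, 1, 5, 1], [5, 2, 5, 2], [5, 3, 5, 3], [5, 4, 5, 4], [4, 3, 2, 1, 0]]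

def subs : List (List ℕ) := []

noncomputable def tab : BT := (BT.leaf (nat_lit 0xff00000000000000))

theorem pw0 : chkSteps (BT.get tab) 5514788471040 6 rels subs
  [] 1 1 = true := by decide +kernel

def seeds : List Seed := []

theorem sd : chkSeeds (BT.get tab) 5514788471040 6 1 seeds
  [] = true := by decide +kernel

theorem seedsOk {G X : Type*} [Group G] [MulAction G X] {g : ℕ → G} {x0 : X} (he : g 255 = 1)
    (hg : ∀ r ∈ rels, ev g r = 1) (hs : ∀ w ∈ subs, ev g w • x0 = x0) : ∀ s ∈ seeds, SeedOk g x0 s :=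
  have h : PwHyp g x0 (BT.get tab) 5514788471040 6 rels subs :=
    ⟨he, by decide +kernel, hg, hs, by decide +kernel⟩
  chkSeeds_sound h (chkSteps_sound h (allF_one _ _ _) pw0) sd

noncomputable def n0 : Net :=
  Net.cons 1 (nat_lit 0x44500140) <|
  Net.cons 2 (nat_lit 0x30323030) <|
  Net.cons 4 (nat_lit 0x6010d00) <|
  Net.cons 8 (nat_lit 0x200000) <|
  Net.cons 16 (nat_lit 0x7bd8) <|
  Net.cons 8 (nat_lit 0x8700e4) <|
  Net.cons 4 (nat_lit 0xb030700) <|
  Net.cons 2 (nat_lit 0x1021310) <|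
  Net.cons 1 (nat_lit 0x51044051) <|
  Net.nil

noncomputable def n1 : Net :=
  Net.cons 1 (nat_lit 0x54545100) <|
  Net.cons 2 (nat_lit 0x22021100) <|
  Net.cons 4 (nat_lit 0x8030400) <|
  Net.cons 8 (nat_lit 0xd0000) <|
  Net.cons 16 (nat_lit 0xd778) <|
  Net.cons 8 (nat_lit 0x250000) <|
  Net.cons 4 (nat_lit 0x8060b0a) <|
  Net.cons 2 (nat_lit 0x11312233) <|
  Net.cons 1 (nat_lit 0x54545100) <|
  Net.nil

noncomputable def n2 : Net :=
  Net.cons 1 (nat_lit 0x4444410) <|
  Net.cons 2 (nat_lit 0x11231310) <|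
  Net.cons 4 (nat_lit 0x2020c00) <|
  Net.cons 8 (nat_lit 0x380000) <|
  Net.cons 16 (nat_lit 0xff0) <|
  Net.cons 8 (nat_lit 0xe30066) <|
  Net.cons 4 (nat_lit 0x2020506) <|
  Net.cons 2 (nat_lit 0x11201013) <|
  Net.cons 1 (nat_lit 0x51111145) <|
  Net.nil

noncomputable def n3 : Net :=
  Net.cons 1 (nat_lit 0x45401040) <|
  Net.cons 2 (nat_lit 0x30102100) <|
  Net.cons 4 (nat_lit 0x8060800) <|
  Net.cons 8 (nat_lit 0x440000) <|
  Net.cons 16 (nat_lit 0xace8) <|
  Net.cons 8 (nat_lit 0xa200e6) <|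
  Net.cons 4 (nat_lit 0xd030d05) <|
  Net.cons 2 (nat_lit 0x30102100) <|
  Net.cons 1 (nat_lit 0x45401040) <|
  Net.nil

noncomputable def n4 : Net :=
  Net.cons 1 (nat_lit 0x14441100) <|
  Net.cons 2 (nat_lit 0x33210210) <|
  Net.cons 4 (nat_lit 0x7080000) <|
  Net.cons 8 (nat_lit 0x690000) <|
  Net.cons 16 (nat_lit 0x33d8) <|
  Net.cons 8 (nat_lit 0xf50086) <|
  Net.cons 4 (nat_lit 0xc0e0d0b) <|
  Net.cons 2 (nat_lit 0x33330321) <|
  Net.cons 1 (nat_lit 0x41114455) <|
  Net.nil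

noncomputable def n5 : Net :=
  Net.cons 1 (nat_lit 0x55555540) <|
  Net.cons 2 (nat_lit 0x22122120) <|
  Net.cons 4 (nat_lit 0x8060500) <|
  Net.cons 8 (nat_lit 0x210000) <|
  Net.cons 16 (nat_lit 0x6f9c) <|
  Net.cons 8 (nat_lit 0xf300d2) <|
  Net.cons 4 (nat_lit 0x7080803) <|
  Net.cons 2 (nat_lit 0x11211210) <|
  Net.cons 1 (nat_lit 0x15) <|
  Net.nil

noncomputable def nets : List Net := [n0, n1, n2, n3, n4, n5]

theorem ok : netsOk 32 nets = true := by decide +kernel

theorem id0 : ∀ r ∈ rels, ev (PP nets) r = 1 :=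
  ev_eq_one_of_chkId (L := 5) ok (by decide) (by decide +kernel)

theorem hP : ∀ r ∈ rels, ev (PP nets) r = 1 := id0

noncomputable def K0 : ℕ := (joinL 32 [(nat_lit 0x8421002),
  (nat_lit 0x10840084),
  (nat_lit 0x21002108),
  (nat_lit 0x40084210),
  (nat_lit 0x2108420),
  (nat_lit 0x84210840)])

theorem df : chkDef nets 32 0 rels
  (joinL 32 [(nat_lit 0x3d),
  (nat_lit 0x3b),
  (nat_lit 0x37),
  (nat_lit 0x2f),
  (nat_lit 0x1f),
  (nat_lit 0x3f)])
  (nat_lit 0x1000000020000000300000004000000050000000600000001000000020000000300000004) 10 K0 = true := by decide +kernel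

theorem dd0 : chkDed nets 32 0 rels seeds
  (nat_lit 0xc000000020000000400000006000000080000000a000008220000082400000826000008280000082a0000000e0000000c0000080e000000040000200e000000100000000c000008100000000600002010000000120000000c000008120000000800002012000000140000000c000008140000000a00002014000000160000000c000008160000000600002016000000180000000c0000081800000008000020180000001a0000000c0000081a0000000a0000201a0000001c0000000c0000081c000000080000201c0000001e0000000c0000081e0000000a0000201e000000200000000c000008200000000a000020200000002c0000000a0000082c000000080000102c000000060000182c000000040000202c000000020000080e0000100e000008100000081200000814) 76 K0 (ivl 0 192) = true := by decide +kernel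

theorem est {G X : Type*} [Group G] [MulAction G X] {g : ℕ → G} {x0 : X} (he : g 255 = 1)
    (hg : ∀ r ∈ rels, ev g r = 1) (hs : ∀ w ∈ subs, ev g w • x0 = x0) :
    ESt g nets 32 x0 0 (ivl 0 192) :=
  have h := seedsOk he hg hs
  have hb : 0 < 32 := by decide
  dedPhase_sound ok hb hg hP h dd0
    (defPhase_sound x0 ok hg hP df)

theorem fin : chkFin nets 32 0 (List.range 6) 0 32 (ivl 0 192) = true := by decide +kernel

theorem inv : chkInv rels (List.range 6) = true := by decide +kernel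

theorem relIndex_le {G : Type*} [Group G] {g : ℕ → G} (he : g 255 = 1)
    (hg : ∀ r ∈ rels, ev g r = 1) {H : Subgroup G} (hs : ∀ w ∈ subs, ev g w ∈ H) :
    H.relIndex (genL g (List.range 6)) ≠ 0 ∧ H.relIndex (genL g (List.range 6)) ≤ 32 :=
  relIndex_le_of_est ok hg inv fin (est he hg fun w hw => (smul_basePt_eq_iff H _).2 (hs w hw))

theorem mem {G : Type*} [Group G] {g : ℕ → G} (he : g 255 = 1)
    (hg : ∀ r ∈ rels, ev g r = 1) {φ : G →* Perm ℕ} (hφ : ∀ x < 6, φ (g x) = PP nets x) :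
    ∀ a ∈ genL g (List.range 6), φ a 0 = 0 → a ∈ genW g subs := fun _ ha h =>
  mem_of_est ok hg inv fin (est he hg fun _ hw => (smul_basePt_eq_iff _ _).2 (mem_genW g hw)) φ
    (fun x hx => hφ x (List.mem_range.1 hx)) ha h

end Cfsg.Agent.Spor.JHJq
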