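import Cfsg.Agent.Spor.Act

/-! Coset enumeration Th96: generators acde of Th over  (generated certificate, helper23). -/

set_option Elab.async false
set_option maxRecDepth 100000
set_option exponentiation.threshold 100000

namespace Cfsg.Agent.Spor.JTh96

open Equiv

def rels : List (List ℕ) := [[], [0, 0], [1, 1], [2, 2], [3, 3], [0, 3, 0, 3], [0, 2, 1, 2, 1, 2, 1, 2, 1], [1, 3, 1, 3], [2, 3, 2, 3, 2, 3]]

def subs : List (List ℕ) := []

noncomputable def tab : BT := (BT.leaf (nat_lit 0xff00000000000000))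

theorem pw0 : chkSteps (BT.get tab) 50462976 4 rels subs
  [] 1 1 = true := by decide +kernel

def seeds : List Seed := []

theorem sd : chkSeeds (BT.get tab) 50462976 4 1 seeds
  [] = true := by decide +kernel

theorem seedsOk {G X : Type*} [Group G] [MulAction G X] {g : ℕ → G} {x0 : X} (he : g 255 = 1)
    (hg : ∀ r ∈ rels, ev g r = 1) (hs : ∀ w ∈ subs, ev g w • x0 = x0) : ∀ s ∈ seeds, SeedOk g x0 s :=
  have h : PwHyp g x0 (BT.get tab) 50462976 4 rels subs :=
    ⟨he, by decide +kernel, hg, hs, by decide +kernel⟩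
  chkSeeds_sound h (chkSteps_sound h (allF_one _ _ _) pw0) sd

noncomputable def n0 : Net :=
  Net.cons 1 (nat_lit 0x521080400000000000000001) <|
  Net.cons 3 (nat_lit 0x1000000000000000000001c) <|
  Net.cons 5 (nat_lit 0x201000008000000001f00) <|
  Net.cons 7 (nat_lit 0x2000e001e001fc0000) <|
  Net.cons 4 (nat_lit 0x840010001000100000000) <|
  Net.cons 8 (nat_lit 0xe00000000) <|
  Net.cons 9 (nat_lit 0x60006000000000000) <|
  Net.cons 6 (nat_lit 0x80200000000000000) <|
  Net.nil

noncomputable def n1 : Net :=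
  Net.cons 1 (nat_lit 0x44440101511040110140500) <|
  Net.cons 2 (nat_lit 0x30113312120133100231100) <|
  Net.cons 4 (nat_lit 0x50908040208080002040400) <|
  Net.cons 8 (nat_lit 0xa50089008600d900060000) <|
  Net.cons 16 (nat_lit 0x48b700000000) <|
  Net.cons 32 (nat_lit 0x48b7) <|
  Net.cons 64 (nat_lit 0x48b7) <|
  Net.cons 32 (nat_lit 0x48b748b7) <|
  Net.cons 16 (nat_lit 0xa5000000ffff00002700) <|
  Net.cons 8 (nat_lit 0xff00c40091000400db00d8) <|
  Net.cons 4 (nat_lit 0x50c0300080402080a090102) <|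
  Net.cons 2 (nat_lit 0x321021221331012011320011) <|
  Net.cons 1 (nat_lit 0x45415110010110114144540) <|
  Net.nil

noncomputable def n2 : Net :=
  Net.cons 1 (nat_lit 0x404515540514545400110500) <|
  Net.cons 2 (nat_lit 0x220111132002022310032000) <|
  Net.cons 4 (nat_lit 0xb000f050001060400030200) <|
  Net.cons 8 (nat_lit 0x4700940005009500070000) <|
  Net.cons 16 (nat_lit 0xa07700000000) <|
  Net.cons 32 (nat_lit 0xa077) <|
  Net.cons 64 (nat_lit 0xa077) <|
  Net.cons 32 (nat_lit 0xa077a077) <|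
  Net.cons 16 (nat_lit 0x57800000ffff00004f80) <|
  Net.cons 8 (nat_lit 0x7e008d00950005001d00b4) <|
  Net.cons 4 (nat_lit 0x40b0801070400030e0d0806) <|
  Net.cons 2 (nat_lit 0x2212020103020202220123) <|
  Net.cons 1 (nat_lit 0x400504145454001454404045) <|
  Net.nil

noncomputable def n3 : Net :=
  Net.cons 1 (nat_lit 0x504150050411104051104400) <|
  Net.cons 2 (nat_lit 0x20113011122030111131000) <|
  Net.cons 4 (nat_lit 0x4020c0508020c0108000e00) <|
  Net.cons 8 (nat_lit 0x9f008400d400c500d60000) <|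
  Net.cons 16 (nat_lit 0x60b700000000) <|
  Net.cons 32 (nat_lit 0x60b7) <|
  Net.cons 64 (nat_lit 0x60b7) <|
  Net.cons 32 (nat_lit 0x60b760b7) <|
  Net.cons 16 (nat_lit 0x97080000ffff00009740) <|
  Net.cons 8 (nat_lit 0xe7005e00c500d4008d006c) <|
  Net.cons 4 (nat_lit 0xb0608020c0108020c04010f) <|
  Net.cons 2 (nat_lit 0x323301320321113203032122) <|
  Net.cons 1 (nat_lit 0x154011100144151554445104) <|
  Net.nil

noncomputable def nets : List Net := [n0, n1, n2, n3]

theorem ok : netsOk 96 nets = true := by decide +kernel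

theorem id0 : ∀ r ∈ rels, ev (PP nets) r = 1 :=
  ev_eq_one_of_chkId (L := 7) ok (by decide) (by decide +kernel)

theorem hP : ∀ r ∈ rels, ev (PP nets) r = 1 := id0

noncomputable def K0 : ℕ := (joinL 96 [(nat_lit 0x2),
  (nat_lit 0x554a22944489883048424),
  (nat_lit 0xa9c8885554aaa54558b23148),
  (nat_lit 0x563223088211122224494a90)])

theorem df : chkDef nets 96 0 rels
  (joinL 96 [(nat_lit 0x1),
  (nat_lit 0x1514a2254448b2314b),
  (nat_lit 0x4245222085552aaa54dceb7),
  (nat_lit 0x10980c4418881111224a56f)])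
  (nat_lit 0x10000000200000003000000040000000300000002000000030000000400000003000000020000000300000004000000030000000200000003) 15 K0 = true := by decide +kernel

theorem dd0 : chkDed nets 96 0 rels seeds
  (nat_lit 0x600000008000000040000000e000008100000080e00000010000000020000000a0000000c000000020000000a0000200c000000040000280c000000060000000c000000020000000e0000000a0000200c00000004000008100000180c0000000c0000080a) 26 K0 (ivl 0 384) = true := by decide +kernel

theorem est {G X : Type*} [Group G] [MulAction G X] {g : ℕ → G} {x0 : X} (he : g 255 = 1)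
    (hg : ∀ r ∈ rels, ev g r = 1) (hs : ∀ w ∈ subs, ev g w • x0 = x0) :
    ESt g nets 96 x0 0 (ivl 0 384) :=
  have h := seedsOk he hg hs
  have hb : 0 < 96 := by decide
  dedPhase_sound ok hb hg hP h dd0
    (defPhase_sound x0 ok hg hP df)

theorem fin : chkFin nets 96 0 (List.range 4) 0 96 (ivl 0 384) = true := by decide +kernel

theorem inv : chkInv rels (List.range 4) = true := by decide +kernel

theorem relIndex_le {G : Type*} [Group G] {g : ℕ → G} (he : g 255 = 1)
    (hg : ∀ r ∈ rels, ev g r = 1) {H : Subgroup G} (hs : ∀ w ∈ subs, ev g w ∈ H) :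
    H.relIndex (genL g (List.range 4)) ≠ 0 ∧ H.relIndex (genL g (List.range 4)) ≤ 96 :=
  relIndex_le_of_est ok hg inv fin (est he hg fun w hw => (smul_basePt_eq_iff H _).2 (hs w hw))

theorem mem {G : Type*} [Group G] {g : ℕ → G} (he : g 255 = 1)
    (hg : ∀ r ∈ rels, ev g r = 1) {φ : G →* Perm ℕ} (hφ : ∀ x < 4, φ (g x) = PP nets x) :
    ∀ a ∈ genL g (List.range 4), φ a 0 = 0 → a ∈ genW g subs := fun _ ha h =>
  mem_of_est ok hg inv fin (est he hg fun _ hw => (smul_basePt_eq_iff _ _).2 (mem_genW g hw)) φ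
    (fun x hx => hφ x (List.mem_range.1 hx)) ha h

end Cfsg.Agent.Spor.JTh96
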