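import Cfsg.Agent.Spor.Act

/-! Coset enumeration A4: generators bcde of Fi22 over  (generated certificate, helper23). -/

set_option Elab.async false
set_option maxRecDepth 100000
set_option exponentiation.threshold 100000

namespace Cfsg.Agent.Spor.JA4

open Equiv

def rels : List (List ℕ) := [[], [0, 0], [1, 1], [2, 2], [3, 3], [0, 1, 0, 1, 0, 1], [0, 2, 0, 2], [0, 3, 0, 3], [1, 2, 1, 2, 1, 2], [1, 3, 1, 3], [2, 3, 2, 3, 2, 3]]

def subs : List (List ℕ) := []

noncomputable def tab : BT := (BT.leaf (nat_lit 0xff00000000000000))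

theorem pw0 : chkSteps (BT.get tab) 50462976 4 rels subs
  [] 1 1 = true := by decide +kernel

def seeds : List Seed := []

theorem sd : chkSeeds (BT.get tab) 50462976 4 1 seeds
  [] = true := by decide +kernel

theorem seedsOk {G X : Type*} [Group G] [MulAction G X] {g : ℕ → G} {x0 : X} (he : g 255 = 1)
    (hg : ∀ r ∈ rels, ev g r = 1) (hs : ∀ w ∈ subs, ev g w • x0 = x0) : ∀ s ∈ seeds, SeedOk g x0 s :=
  have h : PwHyp g x0 (BT.get tab) 50462976 4 rels subs :=
    ⟨he, by decide +kernel, hg, hs, by decide +kernel⟩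
  chkSeeds_sound h (chkSteps_sound h (allF_one _ _ _) pw0) sd

noncomputable def n0 : Net :=
  Net.cons 1 (nat_lit 0x50005050005000505005500005050) <|
  Net.cons 4 (nat_lit 0xf0f050a0f05000f0a0a0005050000) <|
  Net.cons 8 (nat_lit 0xf00050000f00fa005f0000) <|
  Net.cons 16 (nat_lit 0xff550000a05a00005000) <|
  Net.cons 32 (nat_lit 0xf5000000005f000000) <|
  Net.cons 64 (nat_lit 0xf5ff0a0000) <|
  Net.cons 32 (nat_lit 0xf5ff00000000aaff0a00) <|
  Net.cons 16 (nat_lit 0xa50000a5aa0000555000000a5a) <|
  Net.cons 8 (nat_lit 0x5a0055005000aa000500a0005a) <|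
  Net.cons 4 (nat_lit 0x50a00050f000a0a0f05050f0f) <|
  Net.cons 1 (nat_lit 0x505550505550555050550055550505) <|
  Net.nil

noncomputable def n1 : Net :=
  Net.cons 1 (nat_lit 0x555555555555555555555555555555) <|
  Net.nil

noncomputable def n2 : Net :=
  Net.cons 1 (nat_lit 0x4504051004001540041505001100) <|
  Net.cons 2 (nat_lit 0x331231221321031212011222201100) <|
  Net.cons 4 (nat_lit 0x90f0f0a0b050706060c010f040000) <|
  Net.cons 8 (nat_lit 0x4d0046007900a900e000310001) <|
  Net.cons 16 (nat_lit 0x77000043690000720200008000) <|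
  Net.cons 32 (nat_lit 0xd1b0200000000004000000) <|
  Net.cons 64 (nat_lit 0xd1fd24e6080800) <|
  Net.cons 32 (nat_lit 0x7715fd00000000a35e10c8) <|
  Net.cons 16 (nat_lit 0x80000744f000089b500005ca7) <|
  Net.cons 8 (nat_lit 0xed00ab00fb0045001d003500b2) <|
  Net.cons 4 (nat_lit 0xb00000b0904060404030d00060e0d) <|
  Net.cons 2 (nat_lit 0x332132112312032121022111102200) <|
  Net.cons 1 (nat_lit 0x551051504551554015514050554455) <|
  Net.nil

noncomputable def n3 : Net :=
  Net.cons 2 (nat_lit 0x333333333333333333333333333333) <|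
  Net.nil

noncomputable def nets : List Net := [n0, n1, n2, n3]

theorem ok : netsOk 120 nets = true := by decide +kernel

theorem id0 : ∀ r ∈ rels, ev (PP nets) r = 1 :=
  ev_eq_one_of_chkId (L := 7) ok (by decide) (by decide +kernel)

theorem hP : ∀ r ∈ rels, ev (PP nets) r = 1 := id0

noncomputable def K0 : ℕ := (joinL 120 [(nat_lit 0xf0ff00f0f030f03000300000030010),
  (nat_lit 0xa00aa0a0a0a0a0aa20a2a2a202222),
  (nat_lit 0x50055050505050551051515101100),
  (nat_lit 0xc000c00cc0c0c0cccccc)])

theorem df : chkDef nets 120 0 rels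
  (joinL 120 [(nat_lit 0xa00aa0a0a0a0a0aa20a2a2a202223),
  (nat_lit 0x50055050505050551051515101111),
  (nat_lit 0xc000c00cc0c0c0cfccff),
  (nat_lit 0x30003003303030333333)])
  (nat_lit 0x200000004000000030000000200000004000000010000000400000003000000020000000400000001000000040000000300000002000000040000000100000004000000030000000200000001) 20 K0 = true := by decide +kernel

theorem dd0 : chkDed nets 120 0 rels seeds
  (nat_lit 0x4000000080000000200000006000000120000000e0000000c0000081000000814000008120000080a0000000e0000080c0000080e00000012000008120000081000000814) 18 K0 (ivl 0 480) = true := by decide +kernel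

theorem est {G X : Type*} [Group G] [MulAction G X] {g : ℕ → G} {x0 : X} (he : g 255 = 1)
    (hg : ∀ r ∈ rels, ev g r = 1) (hs : ∀ w ∈ subs, ev g w • x0 = x0) :
    ESt g nets 120 x0 0 (ivl 0 480) :=
  have h := seedsOk he hg hs
  have hb : 0 < 120 := by decide
  dedPhase_sound ok hb hg hP h dd0
    (defPhase_sound x0 ok hg hP df)

theorem fin : chkFin nets 120 0 (List.range 4) 0 120 (ivl 0 480) = true := by decide +kernel

theorem inv : chkInv rels (List.range 4) = true := by decide +kernel

theorem relIndex_le {G : Type*} [Group G] {g : ℕ → G} (he : g 255 = 1)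
    (hg : ∀ r ∈ rels, ev g r = 1) {H : Subgroup G} (hs : ∀ w ∈ subs, ev g w ∈ H) :
    H.relIndex (genL g (List.range 4)) ≠ 0 ∧ H.relIndex (genL g (List.range 4)) ≤ 120 :=
  relIndex_le_of_est ok hg inv fin (est he hg fun w hw => (smul_basePt_eq_iff H _).2 (hs w hw))

theorem mem {G : Type*} [Group G] {g : ℕ → G} (he : g 255 = 1)
    (hg : ∀ r ∈ rels, ev g r = 1) {φ : G →* Perm ℕ} (hφ : ∀ x < 4, φ (g x) = PP nets x) :
    ∀ a ∈ genL g (List.range 4), φ a 0 = 0 → a ∈ genW g subs := fun _ ha h =>
  mem_of_est ok hg inv fin (est he hg fun _ hw => (smul_basePt_eq_iff _ _).2 (mem_genW g hw)) φ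
    (fun x hx => hφ x (List.mem_range.1 hx)) ha h

end Cfsg.Agent.Spor.JA4
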