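import Cfsg.Agent.Spor.Act

/-! Coset enumeration D5: generators bcdeh of Fi22 over b,c,d,e (generated certificate, helper23). -/

set_option Elab.async false
set_option maxRecDepth 100000
set_option exponentiation.threshold 100000

namespace Cfsg.Agent.Spor.JD5

open Equiv

def rels : List (List ℕ) := [[], [0, 0], [1, 1], [2, 2], [3, 3], [4, 4], [0, 1, 0, 1, 0, 1], [0, 2, 0, 2], [0, 3, 0, 3], [0, 4, 0, 4], [1, 2, 1, 2, 1, 2], [1, 3, 1, 3], [1, 4, 1, 4], [2, 3, 2, 3, 2, 3], [2, 4, 2, 4, 2, 4], [3, 4, 3, 4]]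

def subs : List (List ℕ) := [[0], [1], [2], [3]]

noncomputable def tab : BT := (BT.leaf (nat_lit 0x300000000000000020000000000000001000000000000000000000000000000ff00000000000000))

theorem pw0 : chkSteps (BT.get tab) 17230332160 5 rels subs
  [(nat_lit 0x2),
  (nat_lit 0x6),
  (nat_lit 0xa),
  (nat_lit 0xe)] 1 5 = true := by decide +kernel

def seeds : List Seed := [([], 0, []), ([], 1, []), ([], 2, []), ([], 3, [])]

theorem sd : chkSeeds (BT.get tab) 17230332160 5 5 seeds
  [(nat_lit 0x200000001),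
  (nat_lit 0x400000001),
  (nat_lit 0x600000001),
  (nat_lit 0x800000001)] = true := by decide +kernel

theorem seedsOk {G X : Type*} [Group G] [MulAction G X] {g : ℕ → G} {x0 : X} (he : g 255 = 1)
    (hg : ∀ r ∈ rels, ev g r = 1) (hs : ∀ w ∈ subs, ev g w • x0 = x0) : ∀ s ∈ seeds, SeedOk g x0 s :=
  have h : PwHyp g x0 (BT.get tab) 17230332160 5 rels subs :=
    ⟨he, by decide +kernel, hg, hs, by decide +kernel⟩
  chkSeeds_sound h (chkSteps_sound h (allF_one _ _ _) pw0) sd

noncomputable def n0 : Net :=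
  Net.cons 9 (nat_lit 0x2) <|
  Net.cons 8 (nat_lit 0x18) <|
  Net.cons 7 (nat_lit 0x40) <|
  Net.nil

noncomputable def n1 : Net :=
  Net.cons 1 (nat_lit 0x55) <|
  Net.nil

noncomputable def n2 : Net :=
  Net.cons 9 (nat_lit 0x9) <|
  Net.cons 7 (nat_lit 0x90) <|
  Net.nil

noncomputable def n3 : Net :=
  Net.cons 2 (nat_lit 0x3) <|
  Net.cons 1 (nat_lit 0x4400) <|
  Net.nil

noncomputable def n4 : Net :=
  Net.cons 2 (nat_lit 0x30) <|
  Net.cons 1 (nat_lit 0x1100) <|
  Net.nil

noncomputable def nets : List Net := [n0, n1, n2, n3, n4]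

theorem ok : netsOk 16 nets = true := by decide +kernel

theorem id0 : ∀ r ∈ rels, ev (PP nets) r = 1 :=
  ev_eq_one_of_chkId (L := 4) ok (by decide) (by decide +kernel)

theorem hP : ∀ r ∈ rels, ev (PP nets) r = 1 := id0

noncomputable def K0 : ℕ := (joinL 16 [(nat_lit 0x400),
  (nat_lit 0x22),
  (nat_lit 0x5011),
  (nat_lit 0x880c),
  (nat_lit 0x22c0)])

theorem df : chkDef nets 16 8 rels
  (joinL 16 [(nat_lit 0x2),
  (nat_lit 0x11),
  (nat_lit 0xa88),
  (nat_lit 0x4403),
  (nat_lit 0x1130)])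
  (nat_lit 0x5000000030000000200000004000000030000000500000001000000040000000300000002000000050000000300000004) 13 K0 = true := by decide +kernel

theorem dd0 : chkDed nets 16 8 rels seeds
  (nat_lit 0x100000003000000050000000700000006000000080000000a000000040000001800000002000000160000001e0000001000000012000008140000001a0000081c0000000e000008180000081e0000080e00000012000008120000081a00000010000000140000001c0000080c0000001e000008160000001800000814000000140000000c000000160000000e0000001a0000081c0000081e00000010) 40 K0 (ivl 0 80) = true := by decide +kernel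

theorem est {G X : Type*} [Group G] [MulAction G X] {g : ℕ → G} {x0 : X} (he : g 255 = 1)
    (hg : ∀ r ∈ rels, ev g r = 1) (hs : ∀ w ∈ subs, ev g w • x0 = x0) :
    ESt g nets 16 x0 8 (ivl 0 80) :=
  have h := seedsOk he hg hs
  have hb : 8 < 16 := by decide
  dedPhase_sound ok hb hg hP h dd0
    (defPhase_sound x0 ok hg hP df)

theorem fin : chkFin nets 16 8 (List.range 5) 0 16 (ivl 0 80) = true := by decide +kernel

theorem inv : chkInv rels (List.range 5) = true := by decide +kernel

theorem relIndex_le {G : Type*} [Group G] {g : ℕ → G} (he : g 255 = 1)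
    (hg : ∀ r ∈ rels, ev g r = 1) {H : Subgroup G} (hs : ∀ w ∈ subs, ev g w ∈ H) :
    H.relIndex (genL g (List.range 5)) ≠ 0 ∧ H.relIndex (genL g (List.range 5)) ≤ 16 :=
  relIndex_le_of_est ok hg inv fin (est he hg fun w hw => (smul_basePt_eq_iff H _).2 (hs w hw))

theorem mem {G : Type*} [Group G] {g : ℕ → G} (he : g 255 = 1)
    (hg : ∀ r ∈ rels, ev g r = 1) {φ : G →* Perm ℕ} (hφ : ∀ x < 5, φ (g x) = PP nets x) :
    ∀ a ∈ genL g (List.range 5), φ a 8 = 8 → a ∈ genW g subs := fun _ ha h =>
  mem_of_est ok hg inv fin (est he hg fun _ hw => (smul_basePt_eq_iff _ _).2 (mem_genW g hw)) φ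
    (fun x hx => hφ x (List.mem_range.1 hx)) ha h

end Cfsg.Agent.Spor.JD5
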