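import Cfsg.Agent.Spor.Act

/-! Coset enumeration F24U: generators bcdefhi of Fi24 over  (generated certificate, helper23). -/

set_option Elab.async false
set_option maxRecDepth 100000
set_option exponentiation.threshold 100000

namespace Cfsg.Agent.Spor.JF24U

open Equiv

def rels : List (List ℕ) := [[0, 2, 0, 2], [2, 4, 2, 4], [2, 6, 2, 6], [0, 6, 0, 6], [2, 2], [0, 3, 0, 3], [0, 5, 0, 5], [1, 4, 1, 4], [1, 6, 1, 6], [3, 6, 3, 6], [4, 5, 4, 5], [], [0, 0], [1, 1], [3, 3], [4, 4], [5, 5], [6, 6], [0, 1, 0, 1, 0, 1], [0, 4, 0, 4], [1, 2, 1, 2, 1, 2], [1, 3, 1, 3], [1, 5, 1, 5], [2, 3, 2, 3, 2, 3], [2, 5, 2, 5, 2, 5], [3, 4, 3, 4, 3, 4], [3, 5, 3, 5], [4, 6, 4, 6], [5, 6, 5, 6, 5, 6]]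

def subs : List (List ℕ) := []

noncomputable def tab : BT := (BT.leaf (nat_lit 0x2000000f000001cff000001d000000f06000001c000000d06000001b000000c02000001b000002d000000019000002d06000002d000000b060000019000002a030000028000002a00000002a000000b0600000180000028000000028000000a06000000a0000025000000018000002502000002500000080200000180000021040000016000002105000001e00000210000000210000008040000014000001e000000007000001e02000001e000000502000001d000001c01000001c000001b00000001b000001a02000001a0000019030000019000001804000001800000170200000170000016050000016000001406000001500000140200000140000012040000005000001201000001200000100400000040000010020000010000000206000000f000000e02000000e000000d01000000d000000c02000000c000000b03000000b000000a02000000a0000009060000009000000805000000800000070200000070000006000000006000000501000000500000040200000040000003040000003000000203000000200000010200000010000000ff00000000000000))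

theorem pw0 : chkSteps (BT.get tab) 1694364648734976 7 rels subs
  [0,
  0,
  0,
  0,
  0,
  0,
  0,
  0,
  0,
  0,
  0,
  0,
  0,
  0,
  0,
  0,
  (nat_lit 0x20000000070000000900300005),
  0,
  (nat_lit 0x24000000230000000b0030001d),
  0,
  0,
  0,
  0,
  0,
  0,
  0,
  0,
  0,
  0,
  0,
  (nat_lit 0x3c0000000d0000000f00301001),
  (nat_lit 0x3c000000260000002900300005),
  0,
  (nat_lit 0x42000000100000003e00300019),
  (nat_lit 0x45000000410000002d00301029),
  (nat_lit 0x470000002f0000003100301005),
  0,
  (nat_lit 0x4a000000430000004900301001),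
  (nat_lit 0x4a000000130000001500300009),
  0,
  (nat_lit 0x500000004e0000004d0030000d),
  0,
  (nat_lit 0x54000000160000005100300015),
  (nat_lit 0x57000000530000003300300025),
  0,
  (nat_lit 0x5a00000055000000590030100d),
  (nat_lit 0x5d000000350000003700300001),
  (nat_lit 0x180000005b0000005f00300009),
  (nat_lit 0x1a000000610000003900300021),
  (nat_lit 0x1e0000001c000000630000003b00400009),
  (nat_lit 0x3b0000006400200011)] 1 52 = true := by decide +kernel

def seeds : List Seed := [([2, 3, 4, 2, 1, 0, 2, 5, 6, 2, 3, 2, 1, 2, 6, 2, 1, 0, 2, 3, 4, 2, 5, 6, 6, 2, 1, 2, 3], 2, [])]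

theorem sd : chkSeeds (BT.get tab) 1694364648734976 7 52 seeds
  [(nat_lit 0x3000000050000002100000025000000290000002b0000002a0000002d0000002f0000003100000033000000350000003700000039000000670000001e0000001c0000001a00000018000000160000001400000012000000100000000e0000000c0000000a000000080000000600000004000000020000001e)] = true := by decide +kernel

theorem seedsOk {G X : Type*} [Group G] [MulAction G X] {g : ℕ → G} {x0 : X} (he : g 255 = 1)
    (hg : ∀ r ∈ rels, ev g r = 1) (hs : ∀ w ∈ subs, ev g w • x0 = x0) : ∀ s ∈ seeds, SeedOk g x0 s :=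
  have h : PwHyp g x0 (BT.get tab) 1694364648734976 7 rels subs :=
    ⟨he, by decide +kernel, hg, hs, by decide +kernel⟩
  chkSeeds_sound h (chkSteps_sound h (allF_one _ _ _) pw0) sd

end Cfsg.Agent.Spor.JF24U
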