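import Cfsg.Agent.Spor.Act

/-! Coset enumeration HnP0: generators xy of HN over x*y (generated certificate, helper23). -/

set_option Elab.async false
set_option maxRecDepth 100000
set_option exponentiation.threshold 100000

namespace Cfsg.Agent.Spor.JHnP0

open Equiv

def rels : List (List ℕ) := [[0, 0, 2, 0, 0, 3], [2, 2, 2, 2, 2, 2], [2, 3], [0, 1], [1, 2, 2, 0, 2, 2, 2, 1, 2, 2, 0, 2, 2, 2, 1, 2, 2, 0, 2, 2, 2], [1, 3, 0, 2, 1, 3, 0, 2, 1, 3, 0, 2], [0, 2, 0, 2, 2, 2, 0, 2, 0, 2, 2, 2, 0, 2, 0, 2, 2, 2, 0, 2, 0, 2, 2, 2], [0, 2, 0, 2, 0, 2, 0, 2, 0, 2, 0, 2, 0, 2, 0, 2], [], [1, 0], [3, 2]]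

def subs : List (List ℕ) := [[0, 2]]

def seeds : List Seed := [([0], 2, []), ([2, 0, 2, 2, 0, 3, 3, 0, 3, 3, 0, 3, 0, 3, 3, 1, 3, 3, 1, 2, 2, 1], 2, [0]), ([2, 2, 0, 3, 0, 3, 0, 3, 0, 2, 2, 1, 3, 1, 3, 1, 3, 1], 2, [0, 3]), ([2, 0, 2, 0, 2, 2, 0, 2, 0, 2, 2, 0, 2, 1, 2, 2], 1, [0, 3, 0, 3]), ([2, 0, 2, 2, 0, 3, 3, 0, 2, 0, 2, 0, 2, 0], 3, [0, 3, 3, 0, 2, 0, 2, 0, 3, 0, 3, 3, 1, 2])]

end Cfsg.Agent.Spor.JHnP0
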