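import Cfsg.Agent.Spor.Act
import Cfsg.Agent.Spor.J.HnP0N0
import Cfsg.Agent.Spor.J.HnP0D0

/-! Coset enumeration HnP0: generators xy of HN over x*y (generated certificate, helper23). -/

set_option Elab.async false
set_option maxRecDepth 100000
set_option exponentiation.threshold 100000

namespace Cfsg.Agent.Spor.JHnP0

open Equiv

theorem pl0_0 : allL [0, 1, 2, 3, 4] (chkPl nets 189000 18 rels) = true := by decide +kernel

theorem pl0_5 : allL [5, 6, 7, 8, 9] (chkPl nets 189000 18 rels) = true := by decide +kernel

theorem pl0_10 : allL [10, 11, 12, 13, 14] (chkPl nets 189000 18 rels) = true := by decide +kernel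

theorem pl0_15 : allL [15, 16, 17] (chkPl nets 189000 18 rels) = true := by decide +kernel

end Cfsg.Agent.Spor.JHnP0
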