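import Cfsg.Agent.Spor.Act

/-! Coset enumeration A8rb: generators zyabvw of A8R over z,y,a,b,v (generated certificate, helper23). -/

set_option Elab.async false
set_option maxRecDepth 100000
set_option exponentiation.threshold 100000

namespace Cfsg.Agent.Spor.JA8rb

open Equiv

def rels : List (List ℕ) := [[], [0, 1], [1, 0], [2, 3], [3, 2], [4, 4], [5, 5], [6, 6], [7, 7], [0, 0, 0], [2, 2, 2], [0, 2, 1, 3], [0, 4, 1, 4], [0, 6, 1, 6], [5, 0, 5, 0], [4, 2, 4, 2], [2, 5, 3, 5], [4, 5, 4, 5], [6, 2, 6, 2, 6, 2], [6, 4, 6, 4, 6, 4], [6, 4, 2, 6, 4, 2, 6, 4, 2, 6, 4, 2, 6, 4, 2], [6, 5, 4, 6, 5, 4], [6, 5, 6, 5, 6, 5, 6, 5, 6, 5, 6, 5], [2, 7, 3, 7], [7, 0, 7, 0, 7, 0], [7, 5, 7, 5, 7, 5], [7, 5, 0, 7, 5, 0, 7, 5, 0, 7, 5, 0, 7, 5, 0], [7, 4, 5, 7, 4, 5], [7, 4, 7, 4, 7, 4, 7, 4, 7, 4, 7, 4], [6, 7, 6, 7]]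

def subs : List (List ℕ) := [[0], [2], [4], [5], [6]]

noncomputable def tab : BT := (BT.leaf (nat_lit 0x6000000000000000500000000000000040000000000000002000000000000000000000000000000ff00000000000000))

theorem pw0 : chkSteps (BT.get tab) 506097522897518593 8 rels subs
  [(nat_lit 0x2),
  (nat_lit 0x6),
  (nat_lit 0xa),
  (nat_lit 0xe),
  (nat_lit 0x12)] 1 6 = true := by decide +kernel

def seeds : List Seed := [([], 0, []), ([], 2, []), ([], 4, []), ([], 5, []), ([], 6, [])]

theorem sd : chkSeeds (BT.get tab) 506097522897518593 8 6 seeds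
  [(nat_lit 0x200000001),
  (nat_lit 0x400000001),
  (nat_lit 0x600000001),
  (nat_lit 0x800000001),
  (nat_lit 0xa00000001)] = true := by decide +kernel

theorem seedsOk {G X : Type*} [Group G] [MulAction G X] {g : ℕ → G} {x0 : X} (he : g 255 = 1)
    (hg : ∀ r ∈ rels, ev g r = 1) (hs : ∀ w ∈ subs, ev g w • x0 = x0) : ∀ s ∈ seeds, SeedOk g x0 s :=
  have h : PwHyp g x0 (BT.get tab) 506097522897518593 8 rels subs :=
    ⟨he, by decide +kernel, hg, hs, by decide +kernel⟩
  chkSeeds_sound h (chkSteps_sound h (allF_one _ _ _) pw0) sd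

noncomputable def n0 : Net :=
  Net.cons 1 (nat_lit 0x1001554500040) <|
  Net.cons 2 (nat_lit 0x2110322122000) <|
  Net.cons 4 (nat_lit 0x8000300020400) <|
  Net.cons 8 (nat_lit 0x90002c0000) <|
  Net.cons 16 (nat_lit 0x2800001000) <|
  Net.cons 32 (nat_lit 0x281000) <|
  Net.cons 16 (nat_lit 0xa800003c00) <|
  Net.cons 8 (nat_lit 0xd100ec0040) <|
  Net.cons 4 (nat_lit 0x800010e030400) <|
  Net.cons 2 (nat_lit 0x2100000221322) <|
  Net.cons 1 (nat_lit 0x1405551000054) <|
  Net.nil

noncomputable def n1 : Net :=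
  Net.cons 1 (nat_lit 0x150004510104) <|
  Net.cons 2 (nat_lit 0x1201333221200) <|
  Net.cons 4 (nat_lit 0x40a0c01060800) <|
  Net.cons 8 (nat_lit 0xc400610000) <|
  Net.cons 16 (nat_lit 0x100008400) <|
  Net.cons 32 (nat_lit 0x18400) <|
  Net.cons 16 (nat_lit 0x410000e500) <|
  Net.cons 8 (nat_lit 0xec00730080) <|
  Net.cons 4 (nat_lit 0x40a08060e0800) <|
  Net.cons 2 (nat_lit 0x1221022122112) <|
  Net.cons 1 (nat_lit 0x554001010410) <|
  Net.nil

noncomputable def n2 : Net :=
  Net.cons 1 (nat_lit 0x44000011144000) <|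
  Net.cons 2 (nat_lit 0x1220302103000) <|
  Net.cons 4 (nat_lit 0x4040402000000) <|
  Net.cons 8 (nat_lit 0x4800040000) <|
  Net.cons 16 (nat_lit 0x4800) <|
  Net.cons 32 (nat_lit 0x4800) <|
  Net.cons 16 (nat_lit 0x4000004c00) <|
  Net.cons 8 (nat_lit 0x6c00a40080) <|
  Net.cons 4 (nat_lit 0x4090503010100) <|
  Net.cons 2 (nat_lit 0x23312332003000) <|
  Net.cons 1 (nat_lit 0x50404514101000) <|
  Net.nil

noncomputable def n3 : Net :=
  Net.cons 1 (nat_lit 0x5111114101000) <|
  Net.cons 2 (nat_lit 0x30332003000) <|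
  Net.cons 4 (nat_lit 0x20c0402000000) <|
  Net.cons 8 (nat_lit 0x6800040000) <|
  Net.cons 16 (nat_lit 0x4800) <|
  Net.cons 32 (nat_lit 0x4800) <|
  Net.cons 16 (nat_lit 0x2000004c00) <|
  Net.cons 8 (nat_lit 0xec00a40080) <|
  Net.cons 4 (nat_lit 0x2070603010100) <|
  Net.cons 2 (nat_lit 0x11021302103000) <|
  Net.cons 1 (nat_lit 0x11455411144000) <|
  Net.nil

noncomputable def n4 : Net :=
  Net.cons 3 (nat_lit 0xe00000800000e) <|
  Net.cons 1 (nat_lit 0x45000) <|
  Net.cons 8 (nat_lit 0x210000) <|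
  Net.cons 5 (nat_lit 0x80100000) <|
  Net.cons 10 (nat_lit 0x400000) <|
  Net.cons 11 (nat_lit 0x800000) <|
  Net.cons 7 (nat_lit 0x14000000) <|
  Net.cons 2 (nat_lit 0xc6000000000) <|
  Net.nil

noncomputable def n5 : Net :=
  Net.cons 3 (nat_lit 0x8002000000002) <|
  Net.cons 4 (nat_lit 0x200008010c004) <|
  Net.cons 2 (nat_lit 0x4000008000308) <|
  Net.cons 9 (nat_lit 0x210000) <|
  Net.cons 11 (nat_lit 0xc00000) <|
  Net.cons 6 (nat_lit 0x4000000) <|
  Net.cons 8 (nat_lit 0x10000000) <|
  Net.cons 1 (nat_lit 0x404000000000) <|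
  Net.nil

noncomputable def n6 : Net :=
  Net.cons 3 (nat_lit 0x10000030) <|
  Net.cons 4 (nat_lit 0x40) <|
  Net.cons 7 (nat_lit 0xb00000200) <|
  Net.cons 9 (nat_lit 0x800) <|
  Net.cons 1 (nat_lit 0x50000004245000) <|
  Net.cons 6 (nat_lit 0x80000020000) <|
  Net.cons 8 (nat_lit 0x1060000000) <|
  Net.cons 5 (nat_lit 0x200000000000) <|
  Net.nil

noncomputable def n7 : Net :=
  Net.cons 1 (nat_lit 0x404001000005) <|
  Net.cons 4 (nat_lit 0x20000020) <|
  Net.cons 5 (nat_lit 0x40) <|
  Net.cons 8 (nat_lit 0x8000c0100) <|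
  Net.cons 10 (nat_lit 0x400) <|
  Net.cons 7 (nat_lit 0x4040000c000) <|
  Net.cons 2 (nat_lit 0x40000000) <|
  Net.cons 9 (nat_lit 0x1000000000) <|
  Net.cons 3 (nat_lit 0x1002000000000) <|
  Net.cons 6 (nat_lit 0x100000000000) <|
  Net.nil

noncomputable def nets : List Net := [n0, n1, n2, n3, n4, n5, n6, n7]

theorem ok : netsOk 56 nets = true := by decide +kernel

theorem id0 : ∀ r ∈ rels, ev (PP nets) r = 1 :=
  ev_eq_one_of_chkId (L := 6) ok (by decide) (by decide +kernel)

theorem hP : ∀ r ∈ rels, ev (PP nets) r = 1 := id0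

noncomputable def K0 : ℕ := (joinL 56 [(nat_lit 0x90820008),
  (nat_lit 0x4),
  (nat_lit 0x80000008a000),
  (nat_lit 0x1400000045000),
  (nat_lit 0x50000d21000030),
  (nat_lit 0x20001242000040),
  (nat_lit 0x8015e000000580),
  (nat_lit 0xe2a000c710a02)])

theorem df : chkDef nets 56 0 rels
  (joinL 56 [(nat_lit 0x2),
  (nat_lit 0x610202),
  (nat_lit 0x42000000580),
  (nat_lit 0x4000000580),
  (nat_lit 0xa000010e10006),
  (nat_lit 0x2000010610004),
  (nat_lit 0x40001b60000070),
  (nat_lit 0x1141c000cc561)])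
  (nat_lit 0x8000000050000000700000001000000050000000600000007000000080000000200000003000000040000000800000005000000060000000700000002000000050000000800000006000000070000000800000003000000050000000600000008000000050000000700000004) 28 K0 = true := by decide +kernel

theorem dd0 : chkDed nets 56 0 rels seeds
  (nat_lit 0x100000003000000050000000700000009000000100000000e0000000a0000000c0000080200000006000008060000003a0000002e00000806000000140000080600000018000008020000081e00000806000018160000000600000020000008060000181a000000020000001a000008020000081600000806000010160000000200000012000008020000081c000008020000081a0000002e00000806000000160000080200000826000010360000000c000000240000000e00000030000000100000181a0000001e0000000a000008260000001a000008020000081c0000080200000020000008060000001c0000000c00001816000000060000082a00000032000000220000001200000802000008320000083a0000001a0000080200000820000018200000002e000008060000001600000802000010160000000200000836000000240000000e0000083000000802000008180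00018180000001c0000000c0000082e0000182e0000082a0000000c000000120000080200000022000008360000000a0000082000001820000000260000003200000830000008020000081c00000802000000160000080200001016000000020000083a00000012000008020000001c000000300000001a0000080200000818000008260000082a00000830000008020000081e000008060000083200000824000008060000003a0000082000000014000008060000002e00000806000008360000000a0000001e0000001600000802000000240000082200000018000008020000081e00000806000008200000082e00000026000000320000001a000008020000082600000824000008060000083a0000082a) 155 K0 (ivl 0 448) = true := by decide +kernel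

theorem est {G X : Type*} [Group G] [MulAction G X] {g : ℕ → G} {x0 : X} (he : g 255 = 1)
    (hg : ∀ r ∈ rels, ev g r = 1) (hs : ∀ w ∈ subs, ev g w • x0 = x0) :
    ESt g nets 56 x0 0 (ivl 0 448) :=
  have h := seedsOk he hg hs
  have hb : 0 < 56 := by decide
  dedPhase_sound ok hb hg hP h dd0
    (defPhase_sound x0 ok hg hP df)

theorem fin : chkFin nets 56 0 (List.range 8) 0 56 (ivl 0 448) = true := by decide +kernel

theorem inv : chkInv rels (List.range 8) = true := by decide +kernel

theorem relIndex_le {G : Type*} [Group G] {g : ℕ → G} (he : g 255 = 1)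
    (hg : ∀ r ∈ rels, ev g r = 1) {H : Subgroup G} (hs : ∀ w ∈ subs, ev g w ∈ H) :
    H.relIndex (genL g (List.range 8)) ≠ 0 ∧ H.relIndex (genL g (List.range 8)) ≤ 56 :=
  relIndex_le_of_est ok hg inv fin (est he hg fun w hw => (smul_basePt_eq_iff H _).2 (hs w hw))

theorem mem {G : Type*} [Group G] {g : ℕ → G} (he : g 255 = 1)
    (hg : ∀ r ∈ rels, ev g r = 1) {φ : G →* Perm ℕ} (hφ : ∀ x < 8, φ (g x) = PP nets x) :
    ∀ a ∈ genL g (List.range 8), φ a 0 = 0 → a ∈ genW g subs := fun _ ha h =>
  mem_of_est ok hg inv fin (est he hg fun _ hw => (smul_basePt_eq_iff _ _).2 (mem_genW g hw)) φ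
    (fun x hx => hφ x (List.mem_range.1 hx)) ha h

end Cfsg.Agent.Spor.JA8rb
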