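import Cfsg.Agent.Spor.Act

/-! Coset enumeration HRne: generators abcdfgh of HRe over a,b,c,d,f (generated certificate, helper23). -/

set_option Elab.async false
set_option maxRecDepth 100000
set_option exponentiation.threshold 100000

namespace Cfsg.Agent.Spor.JHRne

open Equiv

def rels : List (List ℕ) := [[], [0, 0], [1, 1], [2, 2], [3, 3], [4, 4], [5, 5], [6, 6], [2, 0, 2, 0], [3, 0, 3, 0], [4, 0, 4, 0], [3, 1, 3, 1], [2, 3, 0, 3, 2, 0], [2, 4, 0, 4, 2, 0], [3, 4, 0, 4, 3, 0], [4, 2, 4, 2, 4, 2], [4, 1, 4, 2, 1, 2, 1], [4, 3, 4, 3, 2, 3, 2], [2, 3, 2, 0, 2, 3, 2, 0], [2, 3, 4, 0, 4, 3, 2, 0], [2, 4, 2, 0, 2, 4, 2, 0], [2, 4, 3, 0, 3, 4, 2, 0], [3, 2, 3, 0, 3, 2, 3, 0], [3, 2, 4, 0, 4, 2, 3, 0], [3, 4, 3, 0, 3, 4, 3, 0], [4, 3, 4, 0, 4, 3, 4, 0], [2, 4, 2, 1, 2, 4, 2, 1], [4, 2, 4, 1, 2, 4, 2, 1], [4, 2, 3, 2, 4, 2, 3, 2], [4, 2, 3, 4, 2, 4, 3, 2], [1, 0, 1, 0, 1, 0, 1, 0], [2, 1, 2, 1, 2, 1, 2, 1],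 [3, 2, 3, 2, 3, 2, 3, 2], [1, 2, 0, 2, 1, 0, 1, 0, 1, 0], [1, 3, 0, 3, 1, 0, 1, 0, 1, 0], [2, 3, 2, 3, 0, 3, 2, 3, 2, 0], [2, 3, 1, 3, 2, 1, 2, 1, 2, 1], [1, 2, 3, 0, 3, 2, 1, 0, 1, 0, 1, 0], [1, 3, 2, 0, 2, 3, 1, 0, 1, 0, 1, 0], [2, 1, 2, 0, 1, 2, 0, 1, 2, 0, 1, 0], [2, 1, 0, 2, 1, 2, 0, 1, 2, 0, 1, 0], [1, 2, 0, 2, 1, 0, 1, 2, 0, 2, 1, 0], [1, 3, 0, 3, 1, 0, 1, 2, 0, 2, 1, 0], [3, 2, 3, 1, 2, 3, 1, 2, 3, 1, 2, 1], [3, 2, 1, 3, 2, 3, 1, 2, 3, 1, 2, 1], [2, 3, 1, 3, 2, 1, 2, 3, 1, 3, 2, 1], [0, 5, 0, 5, 0, 5], [3, 6, 3, 6, 3, 6], [0, 1, 0, 1, 5, 1, 5], [0, 1, 2, 3, 2, 1, 0, 2, 3, 5, 2, 5], [0, 2, 1, 2, 3, 4, 1, 0, 4, 5, 3, 5], [0, 1, 4, 3, 4, 1, 0, 4, 3, 5, 4, 5], [1, 5, 1, 0, 1, 0, 5], [2, 3, 2, 3, 6, 2, 6], [0, 1, 3, 2, 1, 0, 1, 2, 3, 6, 1, 6], [2, 6, 3, 2, 3, 2, 6], [0, 1, 2, 1, 2, 3, 2, 1, 0, 2, 5, 3, 5], [0, 1, 0, 1, 3, 2, 1, 0, 1, 3, 6, 0, 6], [3, 1, 2, 3, 2, 1, 0, 1, 2, 0, 6, 5, 6, 5], [5, 0, 4, 3,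 2, 1, 4, 6, 4, 3, 2, 1, 4, 6, 4, 3, 2, 1, 4, 6, 4, 3, 2, 1, 4, 6]]

def subs : List (List ℕ) := [[0], [1], [2], [3], [4]]

noncomputable def tab : BT := (BT.leaf (nat_lit 0x4000000000000000300000000000000020000000000000001000000000000000000000000000000ff00000000000000))

theorem pw0 : chkSteps (BT.get tab) 1694364648734976 7 rels subs
  [(nat_lit 0x2),
  (nat_lit 0x6),
  (nat_lit 0xa),
  (nat_lit 0xe),
  (nat_lit 0x12)] 1 6 = true := by decide +kernel

def seeds : List Seed := [([], 0, []), ([], 1, []), ([], 2, []), ([], 3, []), ([], 4, [])]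

theorem sd : chkSeeds (BT.get tab) 1694364648734976 7 6 seeds
  [(nat_lit 0x200000001),
  (nat_lit 0x400000001),
  (nat_lit 0x600000001),
  (nat_lit 0x800000001),
  (nat_lit 0xa00000001)] = true := by decide +kernel

theorem seedsOk {G X : Type*} [Group G] [MulAction G X] {g : ℕ → G} {x0 : X} (he : g 255 = 1)
    (hg : ∀ r ∈ rels, ev g r = 1) (hs : ∀ w ∈ subs, ev g w • x0 = x0) : ∀ s ∈ seeds, SeedOk g x0 s :=
  have h : PwHyp g x0 (BT.get tab) 1694364648734976 7 rels subs :=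
    ⟨he, by decide +kernel, hg, hs, by decide +kernel⟩
  chkSeeds_sound h (chkSteps_sound h (allF_one _ _ _) pw0) sd

noncomputable def n0 : Net :=
  Net.cons 2 (nat_lit 0x2) <|
  Net.cons 3 (nat_lit 0x1000010) <|
  Net.cons 5 (nat_lit 0x40000300) <|
  Net.cons 9 (nat_lit 0x1000) <|
  Net.cons 10 (nat_lit 0x18000) <|
  Net.cons 14 (nat_lit 0xc20000) <|
  Net.cons 1 (nat_lit 0x200080000) <|
  Net.cons 13 (nat_lit 0x30000000) <|
  Net.cons 6 (nat_lit 0x100000000) <|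
  Net.cons 4 (nat_lit 0x18000000000) <|
  Net.nil

noncomputable def n1 : Net :=
  Net.nil

noncomputable def n2 : Net :=
  Net.cons 1 (nat_lit 0x41110450400) <|
  Net.cons 2 (nat_lit 0x20233300000) <|
  Net.cons 4 (nat_lit 0x607030600) <|
  Net.cons 8 (nat_lit 0x9002c0000) <|
  Net.cons 16 (nat_lit 0x22b) <|
  Net.cons 32 (nat_lit 0x22b) <|
  Net.cons 16 (nat_lit 0xbe2b) <|
  Net.cons 8 (nat_lit 0x1d00380040) <|
  Net.cons 4 (nat_lit 0xe02030600) <|
  Net.cons 2 (nat_lit 0x20322311000) <|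
  Net.cons 1 (nat_lit 0x41110550400) <|
  Net.nil

noncomputable def n3 : Net :=
  Net.cons 3 (nat_lit 0x4) <|
  Net.cons 4 (nat_lit 0x10) <|
  Net.cons 6 (nat_lit 0x80) <|
  Net.cons 7 (nat_lit 0xc0000800) <|
  Net.cons 10 (nat_lit 0x1000) <|
  Net.cons 12 (nat_lit 0x810000) <|
  Net.cons 15 (nat_lit 0x25220000) <|
  Net.cons 14 (nat_lit 0x180000) <|
  Net.cons 16 (nat_lit 0x8000000) <|
  Net.cons 2 (nat_lit 0x10000000000) <|
  Net.nil

noncomputable def n4 : Net :=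
  Net.cons 4 (nat_lit 0x8100000004) <|
  Net.cons 5 (nat_lit 0x30) <|
  Net.cons 7 (nat_lit 0x180) <|
  Net.cons 11 (nat_lit 0x81000) <|
  Net.cons 12 (nat_lit 0x2000) <|
  Net.cons 16 (nat_lit 0x1620000) <|
  Net.cons 15 (nat_lit 0x100000) <|
  Net.cons 17 (nat_lit 0x8000000) <|
  Net.cons 13 (nat_lit 0x20000000) <|
  Net.cons 3 (nat_lit 0x80000000) <|
  Net.nil

noncomputable def n5 : Net :=
  Net.cons 1 (nat_lit 0x40044514100) <|
  Net.cons 2 (nat_lit 0x33331221101) <|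
  Net.cons 4 (nat_lit 0x2040600) <|
  Net.cons 8 (nat_lit 0x400080000) <|
  Net.cons 16 (nat_lit 0x24) <|
  Net.cons 32 (nat_lit 0x24) <|
  Net.cons 16 (nat_lit 0xc24) <|
  Net.cons 8 (nat_lit 0x1700ca0060) <|
  Net.cons 4 (nat_lit 0x10d03050701) <|
  Net.cons 2 (nat_lit 0x33331221101) <|
  Net.cons 1 (nat_lit 0x40044514101) <|
  Net.nil

noncomputable def n6 : Net :=
  Net.cons 2 (nat_lit 0x6400000001) <|
  Net.cons 3 (nat_lit 0x40002) <|
  Net.cons 4 (nat_lit 0x1000008) <|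
  Net.cons 6 (nat_lit 0x40) <|
  Net.cons 8 (nat_lit 0x200) <|
  Net.cons 9 (nat_lit 0xc00) <|
  Net.cons 13 (nat_lit 0x4000) <|
  Net.cons 14 (nat_lit 0x18000) <|
  Net.cons 10 (nat_lit 0x82000000) <|
  Net.cons 16 (nat_lit 0x4000000) <|
  Net.nil

noncomputable def nets : List Net := [n0, n1, n2, n3, n4, n5, n6]

theorem ok : netsOk 45 nets = true := by decide +kernel

theorem id0 : ∀ r ∈ rels, ev (PP nets) r = 1 :=
  ev_eq_one_of_chkId (L := 6) ok (by decide) (by decide +kernel)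

theorem hP : ∀ r ∈ rels, ev (PP nets) r = 1 := id0

noncomputable def K0 : ℕ := (joinL 45 [(nat_lit 0x80200008),
  0,
  (nat_lit 0x30014050800),
  (nat_lit 0x81500402120),
  (nat_lit 0x106a0280c640),
  (nat_lit 0x8001000002),
  (nat_lit 0x400681a1094)])

theorem df : chkDef nets 45 0 rels
  (joinL 45 [(nat_lit 0x21002),
  0,
  (nat_lit 0x280c640),
  (nat_lit 0x8321094),
  (nat_lit 0x87231b4),
  (nat_lit 0x401001),
  (nat_lit 0x401ce4b)])
  (nat_lit 0x7000000040000000500000007000000030000000600000001000000070000000400000005000000030000000700000004000000050000000100000006) 16 K0 = true := by decide +kernel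

theorem dd0 : chkDed nets 45 0 rels seeds
  (nat_lit 0x1000000030000000500000007000000090000000a0000000e0000000800000006000000020000000c0000081200000814000028600000085e000008600000085c0000286a0000506c00005872000050660000506400005062000058740000000c00000816000000120000081200000014000008140000001000000820000028600000085e0000281a0000001e0000106a0000286a0000186e0000183400001048000008220000001e00001038000008200000286a0000085e0000506c0000587200000816000008120000081400000820000000100000183400001018000048660000506c0000085c000050720000000e000058720000486400004862000050700000081600000010000058740000000c0000085e0000106a00004866000018600000005c00000820000060740000082200000008000008160000286a00000860000028600000082000005870000058640000000c000008120000106a000030760000000a000008140000001e0000003a0000001a0000000600000814000008240000085c00001022000000400000306a0000000e0000306e0000003a0000081400000816000048660000000c0000081e000008220000085e)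 111 K0 (ivl 0 315) = true := by decide +kernel

theorem est {G X : Type*} [Group G] [MulAction G X] {g : ℕ → G} {x0 : X} (he : g 255 = 1)
    (hg : ∀ r ∈ rels, ev g r = 1) (hs : ∀ w ∈ subs, ev g w • x0 = x0) :
    ESt g nets 45 x0 0 (ivl 0 315) :=
  have h := seedsOk he hg hs
  have hb : 0 < 45 := by decide
  dedPhase_sound ok hb hg hP h dd0
    (defPhase_sound x0 ok hg hP df)

theorem fin : chkFin nets 45 0 (List.range 7) 0 45 (ivl 0 315) = true := by decide +kernel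

theorem inv : chkInv rels (List.range 7) = true := by decide +kernel

theorem relIndex_le {G : Type*} [Group G] {g : ℕ → G} (he : g 255 = 1)
    (hg : ∀ r ∈ rels, ev g r = 1) {H : Subgroup G} (hs : ∀ w ∈ subs, ev g w ∈ H) :
    H.relIndex (genL g (List.range 7)) ≠ 0 ∧ H.relIndex (genL g (List.range 7)) ≤ 45 :=
  relIndex_le_of_est ok hg inv fin (est he hg fun w hw => (smul_basePt_eq_iff H _).2 (hs w hw))

theorem mem {G : Type*} [Group G] {g : ℕ → G} (he : g 255 = 1)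
    (hg : ∀ r ∈ rels, ev g r = 1) {φ : G →* Perm ℕ} (hφ : ∀ x < 7, φ (g x) = PP nets x) :
    ∀ a ∈ genL g (List.range 7), φ a 0 = 0 → a ∈ genW g subs := fun _ ha h =>
  mem_of_est ok hg inv fin (est he hg fun _ hw => (smul_basePt_eq_iff _ _).2 (mem_genW g hw)) φ
    (fun x hx => hφ x (List.mem_range.1 hx)) ha h

end Cfsg.Agent.Spor.JHRne
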