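import Cfsg.Agent.Spor.Act

/-! Coset enumeration HRnl: generators abcdfgh of HRl over a,b,c,d,f (generated certificate, helper23). -/

set_option Elab.async false
set_option maxRecDepth 100000
set_option exponentiation.threshold 100000

namespace Cfsg.Agent.Spor.JHRnl

open Equiv

def rels : List (List ℕ) := [[], [0, 0], [1, 1], [2, 2], [3, 3], [4, 4], [5, 5], [6, 6], [2, 0, 2, 0], [3, 0, 3, 0], [4, 0, 4, 0], [3, 1, 3, 1], [2, 3, 0, 3, 2, 0], [2, 4, 0, 4, 2, 0], [3, 4, 0, 4, 3, 0], [4, 2, 4, 2, 4, 2], [4, 1, 4, 2, 1, 2, 1], [4, 3, 4, 3, 2, 3, 2], [2, 3, 2, 0, 2, 3, 2, 0], [2, 3, 4, 0, 4, 3, 2, 0], [2, 4, 2, 0, 2, 4, 2, 0], [2, 4, 3, 0, 3, 4, 2, 0], [3, 2, 3, 0, 3, 2, 3, 0], [3, 2, 4, 0, 4, 2, 3, 0], [3, 4, 3, 0, 3, 4, 3, 0], [4, 3, 4, 0, 4, 3, 4, 0], [2, 4, 2, 1, 2, 4, 2, 1], [4, 2, 4, 1, 2, 4, 2, 1], [4, 2, 3, 2, 4, 2, 3, 2], [4, 2, 3, 4, 2, 4, 3, 2], [1, 0, 1, 0, 1, 0, 1, 0], [2, 1, 2, 1, 2,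 1, 2, 1], [3, 2, 3, 2, 3, 2, 3, 2], [1, 2, 0, 2, 1, 0, 1, 0, 1, 0], [1, 3, 0, 3, 1, 0, 1, 0, 1, 0], [2, 3, 2, 3, 0, 3, 2, 3, 2, 0], [2, 3, 1, 3, 2, 1, 2, 1, 2, 1], [1, 2, 3, 0, 3, 2, 1, 0, 1, 0, 1, 0], [1, 3, 2, 0, 2, 3, 1, 0, 1, 0, 1, 0], [2, 1, 2, 0, 1, 2, 0, 1, 2, 0, 1, 0], [2, 1, 0, 2, 1, 2, 0, 1, 2, 0, 1, 0], [1, 2, 0, 2, 1, 0, 1, 2, 0, 2, 1, 0], [1, 3, 0, 3, 1, 0, 1, 2, 0, 2, 1, 0], [3, 2, 3, 1, 2, 3, 1, 2, 3, 1, 2, 1], [3, 2, 1, 3, 2, 3, 1, 2, 3, 1, 2, 1], [2, 3, 1, 3, 2, 1, 2, 3, 1, 3, 2, 1], [0, 5, 0, 5, 0, 5], [3, 6, 3, 6, 3, 6], [0, 1, 0, 1, 5, 1, 5], [2, 5, 2, 5], [3, 5, 3, 5], [4, 5, 4, 5], [1, 5, 1, 0, 1, 0, 5], [2, 3, 2, 3, 6, 2, 6], [1, 6, 1, 6], [0, 6, 0, 6], [2, 6, 3, 2, 3, 2, 6], [6, 5, 6, 5], [4, 6, 4, 6, 4, 6]]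

def subs : List (List ℕ) := [[0], [1], [2], [3], [4]]

noncomputable def tab : BT := (BT.leaf (nat_lit 0x4000000000000000300000000000000020000000000000001000000000000000000000000000000ff00000000000000))

theorem pw0 : chkSteps (BT.get tab) 1694364648734976 7 rels subs
  [(nat_lit 0x2),
  (nat_lit 0x6),
  (nat_lit 0xa),
  (nat_lit 0xe),
  (nat_lit 0x12)] 1 6 = true := by decide +kernel

def seeds : List Seed := [([], 0, []), ([], 1, []), ([], 2, []), ([], 3, []), ([], 4, [])]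

theorem sd : chkSeeds (BT.get tab) 1694364648734976 7 6 seeds
  [(nat_lit 0x200000001),
  (nat_lit 0x400000001),
  (nat_lit 0x600000001),
  (nat_lit 0x800000001),
  (nat_lit 0xa00000001)] = true := by decide +kernel

theorem seedsOk {G X : Type*} [Group G] [MulAction G X] {g : ℕ → G} {x0 : X} (he : g 255 = 1)
    (hg : ∀ r ∈ rels, ev g r = 1) (hs : ∀ w ∈ subs, ev g w • x0 = x0) : ∀ s ∈ seeds, SeedOk g x0 s :=
  have h : PwHyp g x0 (BT.get tab) 1694364648734976 7 rels subs :=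
    ⟨he, by decide +kernel, hg, hs, by decide +kernel⟩
  chkSeeds_sound h (chkSteps_sound h (allF_one _ _ _) pw0) sd

noncomputable def n0 : Net :=
  Net.cons 2 (nat_lit 0x2) <|
  Net.cons 3 (nat_lit 0xc010) <|
  Net.cons 4 (nat_lit 0x300) <|
  Net.cons 1 (nat_lit 0x80000) <|
  Net.nil

noncomputable def n1 : Net :=
  Net.nil

noncomputable def n2 : Net :=
  Net.cons 5 (nat_lit 0x6040) <|
  Net.cons 6 (nat_lit 0x600) <|
  Net.cons 3 (nat_lit 0x20000) <|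
  Net.nil

noncomputable def n3 : Net :=
  Net.cons 3 (nat_lit 0x4) <|
  Net.cons 4 (nat_lit 0x8010) <|
  Net.cons 5 (nat_lit 0x880) <|
  Net.cons 2 (nat_lit 0x40000) <|
  Net.nil

noncomputable def n4 : Net :=
  Net.cons 4 (nat_lit 0x4) <|
  Net.cons 5 (nat_lit 0x1030) <|
  Net.cons 6 (nat_lit 0x180) <|
  Net.nil

noncomputable def n5 : Net :=
  Net.cons 1 (nat_lit 0x1) <|
  Net.cons 2 (nat_lit 0x4) <|
  Net.cons 3 (nat_lit 0x10060) <|
  Net.cons 4 (nat_lit 0xc00) <|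
  Net.nil

noncomputable def n6 : Net :=
  Net.cons 1 (nat_lit 0x40010) <|
  Net.cons 4 (nat_lit 0xa) <|
  Net.cons 2 (nat_lit 0x20001) <|
  Net.cons 1 (nat_lit 0x44410) <|
  Net.nil

noncomputable def nets : List Net := [n0, n1, n2, n3, n4, n5, n6]

theorem ok : netsOk 21 nets = true := by decide +kernel

theorem id0 : ∀ r ∈ rels, ev (PP nets) r = 1 :=
  ev_eq_one_of_chkId (L := 5) ok (by decide) (by decide +kernel)

theorem hP : ∀ r ∈ rels, ev (PP nets) r = 1 := id0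

noncomputable def K0 : ℕ := (joinL 21 [(nat_lit 0x8),
  0,
  (nat_lit 0x1d8800),
  (nat_lit 0x1120),
  (nat_lit 0x26640),
  (nat_lit 0x2),
  (nat_lit 0x94)])

theorem df : chkDef nets 21 0 rels
  (joinL 21 [(nat_lit 0x2),
  0,
  (nat_lit 0x26640),
  (nat_lit 0x94),
  (nat_lit 0x11b4),
  (nat_lit 0x1),
  (nat_lit 0xb)])
  (nat_lit 0x600000007000000050000000300000004000000050000000300000001000000070000000500000003000000040000000500000003) 14 K0 = true := by decide +kernel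

theorem dd0 : chkDed nets 21 0 rels seeds
  (nat_lit 0x100000003000000050000000700000009000000060000000a000000080000000e000000020000000c0000006e0000006c000008720000081400000812000008660000281a000008640000101c000028600000085c00000816000000620000006600000064000008620000086600000860000008740000085e0000286a000000100000001400000012000008620000001e000008200000086e000018340000106a00000822000010380000001e00000820000018340000206a0000000e0000306a) 49 K0 (ivl 0 147) = true := by decide +kernel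

theorem est {G X : Type*} [Group G] [MulAction G X] {g : ℕ → G} {x0 : X} (he : g 255 = 1)
    (hg : ∀ r ∈ rels, ev g r = 1) (hs : ∀ w ∈ subs, ev g w • x0 = x0) :
    ESt g nets 21 x0 0 (ivl 0 147) :=
  have h := seedsOk he hg hs
  have hb : 0 < 21 := by decide
  dedPhase_sound ok hb hg hP h dd0
    (defPhase_sound x0 ok hg hP df)

theorem fin : chkFin nets 21 0 (List.range 7) 0 21 (ivl 0 147) = true := by decide +kernel

theorem inv : chkInv rels (List.range 7) = true := by decide +kernel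

theorem relIndex_le {G : Type*} [Group G] {g : ℕ → G} (he : g 255 = 1)
    (hg : ∀ r ∈ rels, ev g r = 1) {H : Subgroup G} (hs : ∀ w ∈ subs, ev g w ∈ H) :
    H.relIndex (genL g (List.range 7)) ≠ 0 ∧ H.relIndex (genL g (List.range 7)) ≤ 21 :=
  relIndex_le_of_est ok hg inv fin (est he hg fun w hw => (smul_basePt_eq_iff H _).2 (hs w hw))

theorem mem {G : Type*} [Group G] {g : ℕ → G} (he : g 255 = 1)
    (hg : ∀ r ∈ rels, ev g r = 1) {φ : G →* Perm ℕ} (hφ : ∀ x < 7, φ (g x) = PP nets x) :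
    ∀ a ∈ genL g (List.range 7), φ a 0 = 0 → a ∈ genW g subs := fun _ ha h =>
  mem_of_est ok hg inv fin (est he hg fun _ hw => (smul_basePt_eq_iff _ _).2 (mem_genW g hw)) φ
    (fun x hx => hφ x (List.mem_range.1 hx)) ha h

end Cfsg.Agent.Spor.JHRnl
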