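import Cfsg.Agent.Spor.Act

/-! Coset enumeration HRp: generators abcdefg of HRp over a,b,c,d,e,f (generated certificate, helper23). -/

set_option Elab.async false
set_option maxRecDepth 100000
set_option exponentiation.threshold 100000

namespace Cfsg.Agent.Spor.JHRp

open Equiv

def rels : List (List ℕ) := [[], [0, 0], [1, 1], [2, 2], [3, 3], [4, 4], [5, 5], [6, 6], [2, 0, 2, 0], [3, 0, 3, 0], [5, 0, 5, 0], [3, 1, 3, 1], [4, 3, 4, 3], [2, 3, 0, 3, 2, 0], [2, 5, 0, 5, 2, 0], [4, 3, 4, 0, 3, 0], [3, 5, 0, 5, 3, 0], [4, 3, 4, 1, 3, 1], [4, 1, 4, 1, 4, 1], [5, 4, 2, 4, 5, 1], [5, 2, 5, 2, 5, 2], [5, 4, 5, 4, 5, 4], [4, 0, 4, 1, 0, 1, 0], [4, 2, 4, 2, 1, 2, 1], [5, 1, 5, 2, 1, 2, 1], [5, 3, 5, 3, 2, 3, 2], [4, 3, 4, 0, 1, 3, 1, 0], [1, 4, 1, 0, 1, 4, 1, 0], [4, 1, 4, 0, 1, 4, 1, 0], [3, 0, 1, 4, 3, 4, 1, 0], [5, 0, 4, 2, 4, 5, 1, 0], [4, 5, 1, 5, 4, 0, 2, 0], [2, 3, 2, 0,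 2, 3, 2, 0], [2, 3, 5, 0, 5, 3, 2, 0], [2, 5, 2, 0, 2, 5, 2, 0], [2, 5, 3, 0, 3, 5, 2, 0], [3, 2, 3, 0, 3, 2, 3, 0], [3, 2, 5, 0, 5, 2, 3, 0], [3, 5, 3, 0, 3, 5, 3, 0], [4, 3, 4, 0, 4, 3, 4, 0], [5, 0, 4, 5, 4, 5, 4, 0], [5, 3, 5, 0, 5, 3, 5, 0], [4, 1, 2, 1, 4, 1, 2, 1], [4, 1, 2, 4, 1, 4, 2, 1], [2, 5, 2, 1, 2, 5, 2, 1], [5, 2, 5, 1, 2, 5, 2, 1], [3, 4, 1, 4, 1, 4, 3, 1], [3, 5, 4, 2, 4, 5, 3, 1], [5, 1, 5, 1, 4, 2, 4, 1], [5, 4, 2, 5, 4, 5, 4, 1], [5, 2, 4, 2, 4, 2, 5, 1], [5, 2, 3, 2, 5, 2, 3, 2], [5, 2, 3, 5, 2, 5, 3, 2], [1, 0, 1, 0, 1, 0, 1, 0], [2, 1, 2, 1, 2, 1, 2, 1], [3, 2, 3, 2, 3, 2, 3, 2], [1, 2, 0, 2, 1, 0, 1, 0, 1, 0], [1, 3, 0, 3, 1, 0, 1, 0, 1, 0], [2, 3, 2, 3, 0, 3, 2, 3, 2, 0], [2, 3, 1, 3, 2, 1, 2, 1, 2, 1], [1, 2, 3, 0, 3, 2, 1, 0, 1, 0, 1, 0], [1, 3, 2, 0, 2, 3, 1, 0, 1, 0, 1, 0], [2, 1, 2, 0, 1, 2, 0, 1, 2, 0, 1, 0], [2, 1, 0, 2, 1, 2, 0, 1, 2,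 0, 1, 0], [1, 2, 0, 2, 1, 0, 1, 2, 0, 2, 1, 0], [1, 3, 0, 3, 1, 0, 1, 2, 0, 2, 1, 0], [3, 2, 3, 1, 2, 3, 1, 2, 3, 1, 2, 1], [3, 2, 1, 3, 2, 3, 1, 2, 3, 1, 2, 1], [2, 3, 1, 3, 2, 1, 2, 3, 1, 3, 2, 1], [0, 6, 0, 6, 0, 6], [0, 1, 0, 1, 6, 1, 6], [2, 6, 2, 6], [3, 6, 3, 6], [5, 6, 5, 6], [1, 6, 1, 0, 1, 0, 6], [4, 6, 4, 6, 4, 6]]

def subs : List (List ℕ) := [[0], [1], [2], [3], [4], [5]]

noncomputable def tab : BT := (BT.leaf (nat_lit 0x50000000000000004000000000000000300000000000000020000000000000001000000000000000000000000000000ff00000000000000))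

theorem pw0 : chkSteps (BT.get tab) 1694364648734976 7 rels subs
  [(nat_lit 0x2),
  (nat_lit 0x6),
  (nat_lit 0xa),
  (nat_lit 0xe),
  (nat_lit 0x12),
  (nat_lit 0x16)] 1 7 = true := by decide +kernel

def seeds : List Seed := [([], 0, []), ([], 1, []), ([], 2, []), ([], 3, []), ([], 4, []), ([], 5, [])]

theorem sd : chkSeeds (BT.get tab) 1694364648734976 7 7 seeds
  [(nat_lit 0x200000001),
  (nat_lit 0x400000001),
  (nat_lit 0x600000001),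
  (nat_lit 0x800000001),
  (nat_lit 0xa00000001),
  (nat_lit 0xc00000001)] = true := by decide +kernel

theorem seedsOk {G X : Type*} [Group G] [MulAction G X] {g : ℕ → G} {x0 : X} (he : g 255 = 1)
    (hg : ∀ r ∈ rels, ev g r = 1) (hs : ∀ w ∈ subs, ev g w • x0 = x0) : ∀ s ∈ seeds, SeedOk g x0 s :=
  have h : PwHyp g x0 (BT.get tab) 1694364648734976 7 rels subs :=
    ⟨he, by decide +kernel, hg, hs, by decide +kernel⟩
  chkSeeds_sound h (chkSteps_sound h (allF_one _ _ _) pw0) sd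

noncomputable def n0 : Net :=
  Net.cons 1 (nat_lit 0x2002) <|
  Net.cons 2 (nat_lit 0x220) <|
  Net.nil

noncomputable def n1 : Net :=
  Net.cons 2 (nat_lit 0x1008) <|
  Net.cons 3 (nat_lit 0x410) <|
  Net.nil

noncomputable def n2 : Net :=
  Net.cons 4 (nat_lit 0x340) <|
  Net.cons 3 (nat_lit 0x800) <|
  Net.nil

noncomputable def n3 : Net :=
  Net.nil

noncomputable def n4 : Net :=
  Net.cons 2 (nat_lit 0x6) <|
  Net.cons 1 (nat_lit 0xa00) <|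
  Net.nil

noncomputable def n5 : Net :=
  Net.cons 3 (nat_lit 0x8) <|
  Net.cons 4 (nat_lit 0xb0) <|
  Net.nil

noncomputable def n6 : Net :=
  Net.cons 1 (nat_lit 0x1111) <|
  Net.nil

noncomputable def nets : List Net := [n0, n1, n2, n3, n4, n5, n6]

theorem ok : netsOk 15 nets = true := by decide +kernel

theorem id0 : ∀ r ∈ rels, ev (PP nets) r = 1 :=
  ev_eq_one_of_chkId (L := 4) ok (by decide) (by decide +kernel)

theorem hP : ∀ r ∈ rels, ev (PP nets) r = 1 := id0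

noncomputable def K0 : ℕ := (joinL 15 [(nat_lit 0x4),
  (nat_lit 0xa0),
  (nat_lit 0x7400),
  0,
  (nat_lit 0x18),
  (nat_lit 0xb40),
  (nat_lit 0x2)])

theorem df : chkDef nets 15 0 rels
  (joinL 15 [(nat_lit 0x2),
  (nat_lit 0x18),
  (nat_lit 0xb40),
  0,
  (nat_lit 0x6),
  (nat_lit 0xb8),
  (nat_lit 0x1)])
  (nat_lit 0x70000000100000005000000020000000600000003) 6 K0 = true := by decide +kernel

theorem dd0 : chkDed nets 15 0 rels seeds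
  (nat_lit 0x1000000030000000500000007000000090000000b000000060000000c000000040000000a0000000e00000002000000900000008e000000920000088a000008960000288c0000001200000818000008920000001000000014000020220000002400001026000028260000082a0000088c0000082e0000185c0000105400000860000008620000000a00000028000008320000202e000010660000082c0000088e0000183600001064000008140000101c0000208c0000000e0000308c0000088e) 49 K0 (ivl 0 105) = true := by decide +kernel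

theorem est {G X : Type*} [Group G] [MulAction G X] {g : ℕ → G} {x0 : X} (he : g 255 = 1)
    (hg : ∀ r ∈ rels, ev g r = 1) (hs : ∀ w ∈ subs, ev g w • x0 = x0) :
    ESt g nets 15 x0 0 (ivl 0 105) :=
  have h := seedsOk he hg hs
  have hb : 0 < 15 := by decide
  dedPhase_sound ok hb hg hP h dd0
    (defPhase_sound x0 ok hg hP df)

theorem fin : chkFin nets 15 0 (List.range 7) 0 15 (ivl 0 105) = true := by decide +kernel

theorem inv : chkInv rels (List.range 7) = true := by decide +kernel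

theorem relIndex_le {G : Type*} [Group G] {g : ℕ → G} (he : g 255 = 1)
    (hg : ∀ r ∈ rels, ev g r = 1) {H : Subgroup G} (hs : ∀ w ∈ subs, ev g w ∈ H) :
    H.relIndex (genL g (List.range 7)) ≠ 0 ∧ H.relIndex (genL g (List.range 7)) ≤ 15 :=
  relIndex_le_of_est ok hg inv fin (est he hg fun w hw => (smul_basePt_eq_iff H _).2 (hs w hw))

theorem mem {G : Type*} [Group G] {g : ℕ → G} (he : g 255 = 1)
    (hg : ∀ r ∈ rels, ev g r = 1) {φ : G →* Perm ℕ} (hφ : ∀ x < 7, φ (g x) = PP nets x) :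
    ∀ a ∈ genL g (List.range 7), φ a 0 = 0 → a ∈ genW g subs := fun _ ha h =>
  mem_of_est ok hg inv fin (est he hg fun _ hw => (smul_basePt_eq_iff _ _).2 (mem_genW g hw)) φ
    (fun x hx => hφ x (List.mem_range.1 hx)) ha h

end Cfsg.Agent.Spor.JHRp
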