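import Cfsg.Agent.Spor.Act

/-! Coset enumeration J1m1: generators ab of J1m over a (generated certificate, helper23). -/

set_option Elab.async false
set_option maxRecDepth 100000
set_option exponentiation.threshold 100000

namespace Cfsg.Agent.Spor.JJ1m1

open Equiv

def rels : List (List ℕ) := [[], [0, 1], [1, 0], [2, 2], [0, 0, 0, 0, 0], [0, 2, 0, 2, 0, 2, 0, 2, 0, 2], [2, 0, 2, 1, 1, 2, 0, 2, 1, 1, 2, 0, 2, 1, 1]]

def subs : List (List ℕ) := [[0]]

noncomputable def tab : BT := (BT.leaf (nat_lit 0xff00000000000000))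

theorem pw0 : chkSteps (BT.get tab) 131073 3 rels subs
  [(nat_lit 0x2)] 1 2 = true := by decide +kernel

def seeds : List Seed := [([], 0, [])]

theorem sd : chkSeeds (BT.get tab) 131073 3 2 seeds
  [(nat_lit 0x200000001)] = true := by decide +kernel

theorem seedsOk {G X : Type*} [Group G] [MulAction G X] {g : ℕ → G} {x0 : X} (he : g 255 = 1)
    (hg : ∀ r ∈ rels, ev g r = 1) (hs : ∀ w ∈ subs, ev g w • x0 = x0) : ∀ s ∈ seeds, SeedOk g x0 s :=
  have h : PwHyp g x0 (BT.get tab) 131073 3 rels subs :=
    ⟨he, by decide +kernel, hg, hs, by decide +kernel⟩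
  chkSeeds_sound h (chkSteps_sound h (allF_one _ _ _) pw0) sd

noncomputable def n0 : Net :=
  Net.cons 1 (nat_lit 0x54010051041055005510055010511510) <|
  Net.cons 2 (nat_lit 0x21311003031203202003010100110000) <|
  Net.cons 4 (nat_lit 0xc0e0000090503060500010904010800) <|
  Net.cons 8 (nat_lit 0x15001a00c000a0000700b000210004) <|
  Net.cons 16 (nat_lit 0x11870000d1d4000018ad00000000) <|
  Net.cons 32 (nat_lit 0x814054b70000000000000000) <|
  Net.cons 64 (nat_lit 0x7) <|
  Net.cons 128 (nat_lit 0x7) <|
  Net.cons 64 (nat_lit 0x814054b500000007) <|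
  Net.cons 32 (nat_lit 0xd5ed57ff000000001ea80000) <|
  Net.cons 16 (nat_lit 0xd096000009850000fafe00006104) <|
  Net.cons 8 (nat_lit 0x400b10015006e00c5007100b10094) <|
  Net.cons 4 (nat_lit 0xb0701060c0e0d0202020c0006080304) <|
  Net.cons 2 (nat_lit 0x100222232331121033101202233002232) <|
  Net.cons 1 (nat_lit 0x140000414114100451001500110445144) <|
  Net.nil

noncomputable def n1 : Net :=
  Net.cons 1 (nat_lit 0x140000414114100451001500110445144) <|
  Net.cons 2 (nat_lit 0x322102210113303010203020011220010) <|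
  Net.cons 4 (nat_lit 0x10f0307060c09000503040004080100) <|
  Net.cons 8 (nat_lit 0x5600c10045001c0005000b00090004) <|
  Net.cons 16 (nat_lit 0x601c000071470000a23c00000000) <|
  Net.cons 32 (nat_lit 0x1140641f0000000000000000) <|
  Net.cons 64 (nat_lit 0xd) <|
  Net.cons 128 (nat_lit 0xd) <|
  Net.cons 64 (nat_lit 0x1140641f0000000d) <|
  Net.cons 32 (nat_lit 0x75f565ff00000000a6380000) <|
  Net.cons 16 (nat_lit 0x715f0000220400007aff00004904) <|
  Net.cons 8 (nat_lit 0x47004a001700d800d50048001b0034) <|
  Net.cons 4 (nat_lit 0xc0c0a0602060006050a090906090a04) <|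
  Net.cons 2 (nat_lit 0x203133203202001020221233122332222) <|
  Net.cons 1 (nat_lit 0x54010051041055005510055010511510) <|
  Net.nil

noncomputable def n2 : Net :=
  Net.cons 1 (nat_lit 0x115001150441455155044150104400540) <|
  Net.cons 2 (nat_lit 0x110321300123021210231333103202120) <|
  Net.cons 4 (nat_lit 0xc0d030005070b04080b010a04060300) <|
  Net.cons 8 (nat_lit 0x5e00f6001d00bc00c60010004a0008) <|
  Net.cons 16 (nat_lit 0x3abe000081e700000cd600000000) <|
  Net.cons 32 (nat_lit 0x218fde0000000000000000) <|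
  Net.cons 64 (nat_lit 0xc) <|
  Net.cons 128 (nat_lit 0xc) <|
  Net.cons 64 (nat_lit 0x218fd60000000c) <|
  Net.cons 32 (nat_lit 0x2bb7dfff000000008cd60000) <|
  Net.cons 16 (nat_lit 0xa1ce000078e60000fbff00004308) <|
  Net.cons 8 (nat_lit 0x2d0094007000f6004e006b00310038) <|
  Net.cons 4 (nat_lit 0xd000b000a0f020004010c0505030f0c) <|
  Net.cons 2 (nat_lit 0x221332320212112120312332303301210) <|
  Net.cons 1 (nat_lit 0x440554405110100400111405441145015) <|
  Net.nil

noncomputable def nets : List Net := [n0, n1, n2]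

theorem ok : netsOk 132 nets = true := by decide +kernel

theorem id0 : ∀ r ∈ rels, ev (PP nets) r = 1 :=
  ev_eq_one_of_chkId (L := 8) ok (by decide) (by decide +kernel)

theorem hP : ∀ r ∈ rels, ev (PP nets) r = 1 := id0

noncomputable def K0 : ℕ := (joinL 132 [(nat_lit 0x7253508cc8a2526254909a4448492a448),
  (nat_lit 0x904a6422250a9092a6a2522141295214),
  (nat_lit 0x84a80931150d049481054099a3a4409a2)])

theorem df : chkDef nets 132 0 rels
  (joinL 132 [(nat_lit 0x11000112d048b0d44bba5a4c5ba6),
  (nat_lit 0x48011100255216951558dc8ba54adaa),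
  (nat_lit 0x200008400500a621cc8a544545bbd45d)])
  (nat_lit 0x3000000010000000100000003000000020000000200000003000000010000000200000003000000010000000200000003000000010000000200000003000000020000000100000003000000010000000200000003) 22 K0 = true := by decide +kernel

theorem dd0 : chkDed nets 132 0 rels seeds
  (nat_lit 0x100000802000000020000000600000008000008020000080a000000060000080c000008020000100c000000060000000a000008020000000c000000060000180c0000000200000008000008020000080a000000060000200c000000020000000c000000060000180c000000020000000a000008020000080c000008020000100c0000000600000008000008020000080a000000060000080c000008020000000a000008020000080a000000060000200c00000002) 46 K0 (ivl 0 396) = true := by decide +kernel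

theorem est {G X : Type*} [Group G] [MulAction G X] {g : ℕ → G} {x0 : X} (he : g 255 = 1)
    (hg : ∀ r ∈ rels, ev g r = 1) (hs : ∀ w ∈ subs, ev g w • x0 = x0) :
    ESt g nets 132 x0 0 (ivl 0 396) :=
  have h := seedsOk he hg hs
  have hb : 0 < 132 := by decide
  dedPhase_sound ok hb hg hP h dd0
    (defPhase_sound x0 ok hg hP df)

theorem fin : chkFin nets 132 0 (List.range 3) 0 132 (ivl 0 396) = true := by decide +kernel

theorem inv : chkInv rels (List.range 3) = true := by decide +kernel

theorem relIndex_le {G : Type*} [Group G] {g : ℕ → G} (he : g 255 = 1)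
    (hg : ∀ r ∈ rels, ev g r = 1) {H : Subgroup G} (hs : ∀ w ∈ subs, ev g w ∈ H) :
    H.relIndex (genL g (List.range 3)) ≠ 0 ∧ H.relIndex (genL g (List.range 3)) ≤ 132 :=
  relIndex_le_of_est ok hg inv fin (est he hg fun w hw => (smul_basePt_eq_iff H _).2 (hs w hw))

theorem mem {G : Type*} [Group G] {g : ℕ → G} (he : g 255 = 1)
    (hg : ∀ r ∈ rels, ev g r = 1) {φ : G →* Perm ℕ} (hφ : ∀ x < 3, φ (g x) = PP nets x) :
    ∀ a ∈ genL g (List.range 3), φ a 0 = 0 → a ∈ genW g subs := fun _ ha h =>
  mem_of_est ok hg inv fin (est he hg fun _ hw => (smul_basePt_eq_iff _ _).2 (mem_genW g hw)) φ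
    (fun x hx => hφ x (List.mem_range.1 hx)) ha h

end Cfsg.Agent.Spor.JJ1m1
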