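import Cfsg.Agent.Spor.Act

/-! Coset enumeration J4d: generators xy of J4 over y*x*y*x*y*x*~y*x*~y,y*x*~y*x*y*x*y*x*y*x*~y*x*~y*x*y*x*~y,y*x*~y*x*y*x*~y*x*y*x*y*x*~y*x*y*x*~y,y*x*~y*x*~y*x*y*x*y*x*~y*x*y*x*y*x*~y,y*x*~y*x*~y*x*~y*x*y*x*y*x*~y*x*y*x*y*x*y*x*~y,y*x*~y*x*~y*x*~y*x*~y*x*y*x*y*x*y*x*y*x*y*x*~y,x*y (generated certificate, helper23). -/

set_option Elab.async false
set_option maxRecDepth 100000
set_option exponentiation.threshold 100000

namespace Cfsg.Agent.Spor.JJ4d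

open Equiv

def rels : List (List ℕ) := [[], [0, 0], [1, 2], [2, 1], [1, 1, 1], [0, 1, 0, 1, 0, 1, 0, 1, 0, 1, 0, 1, 0, 1, 0, 1, 0, 1, 0, 1, 0, 1, 0, 1, 0, 1, 0, 1, 0, 1, 0, 1, 0, 1, 0, 1, 0, 1, 0, 1, 0, 1, 0, 1, 0, 1], [0, 2, 0, 1, 0, 2, 0, 1, 0, 2, 0, 1, 0, 2, 0, 1, 0, 2, 0, 1, 0, 2, 0, 1, 0, 2, 0, 1, 0, 2, 0, 1, 0, 2, 0, 1, 0, 2, 0, 1, 0, 2, 0, 1, 0, 2, 0, 1], [0, 2, 0, 2, 0, 1, 0, 1, 0, 2, 0, 2, 0, 1, 0, 1, 0, 2, 0, 2, 0, 1, 0, 1, 0, 2, 0, 2, 0, 1, 0, 1, 0, 2, 0, 2, 0, 1, 0, 1], [0, 1, 0, 1, 0, 2, 0, 1, 0, 2, 0, 1, 0, 2, 0, 1, 0, 1, 0, 2, 0, 1, 0, 2, 0, 1, 0, 2, 0, 1, 0, 1, 0, 2, 0, 1, 0, 2, 0, 1, 0, 2, 0, 1, 0, 1, 0, 2, 0, 1, 0, 2, 0, 1, 0, 2], [0, 1, 0, 1, 0, 2, 0, 1, 0, 1, 0, 2, 0, 1, 0, 1, 0, 2, 0, 1, 0, 2, 0, 2, 0, 1, 0, 2, 0, 2, 0, 1, 0, 2, 0, 2]]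

def subs : List (List ℕ) := [[1, 0, 1, 0, 1, 0, 2, 0, 2], [1, 0, 2, 0, 1, 0, 1, 0, 1, 0, 2, 0, 2, 0, 1, 0, 2], [1, 0, 2, 0, 1, 0, 2, 0, 1, 0, 1, 0, 2, 0, 1, 0, 2], [1, 0, 2, 0, 2, 0, 1, 0, 1, 0, 2, 0, 1, 0, 1, 0, 2], [1, 0, 2, 0, 2, 0, 2, 0, 1, 0, 1, 0, 2, 0, 1, 0, 1, 0, 1, 0, 2], [1, 0, 2, 0, 2, 0, 2, 0, 2, 0, 1, 0, 1, 0, 1, 0, 1, 0, 1, 0, 2], [0, 1]]

noncomputable def tab : BT := (BT.leaf (nat_lit 0x100000130000013000000013000001201000001200000110000000110000010020000010000000701000000e000000e00000000e000000d02000000d000000901000000b000000b00000000b000000a01000000a0000009000000009000000801000000800000070000000070000006020000006000000201000000400000040000000040000003010000003000000200000000200000010100000010000000ff00000000000000))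

theorem pw0 : chkSteps (BT.get tab) 66048 3 rels subs
  [0,
  0,
  0,
  0,
  (nat_lit 0x30000000500000007000000090000000800000006000000040000000200404002),
  0,
  0,
  0,
  0,
  0,
  0,
  (nat_lit 0x3000000050000000d0000000f00000011000000130000001500000017000000160000001400000012000000100000000e0000000c000000040000000200808006),
  0,
  0,
  (nat_lit 0x3000000050000000d0000000f00000011000000130000001b0000001d0000001c0000001a00000012000000100000000e0000000c00000004000000020080800a),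
  0,
  0,
  0,
  0,
  (nat_lit 0x3000000050000000d0000000f00000021000000230000002500000027000000260000002400000022000000200000000e0000000c00000004000000020080800e)] 1 21 = true := by decide +kernel

def seeds : List Seed := [([1, 0, 1, 0], 1, [1, 0, 1, 0]), ([1, 0, 2, 0, 1, 0, 1, 0], 1, [1, 0, 2, 0, 1, 0, 1, 0]), ([1, 0, 2, 0, 1, 0, 2, 0], 1, [1, 0, 2, 0, 1, 0, 2, 0]), ([1, 0, 2, 0, 2, 0, 1, 0], 1, [1, 0, 2, 0, 2, 0, 1, 0])]

theorem sd : chkSeeds (BT.get tab) 66048 3 21 seeds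
  [(nat_lit 0x80000000600000004000000020000000a0000000800000006000000040000000200040005),
  (nat_lit 0x160000001400000012000000100000000e0000000c000000040000000200000018000000160000001400000012000000100000000e0000000c000000040000000200080009),
  (nat_lit 0x1c0000001a00000012000000100000000e0000000c00000004000000020000001e0000001c0000001a00000012000000100000000e0000000c000000040000000200080009),
  (nat_lit 0x260000002400000022000000200000000e0000000c000000040000000200000028000000260000002400000022000000200000000e0000000c000000040000000200080009)] = true := by decide +kernel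

theorem seedsOk {G X : Type*} [Group G] [MulAction G X] {g : ℕ → G} {x0 : X} (he : g 255 = 1)
    (hg : ∀ r ∈ rels, ev g r = 1) (hs : ∀ w ∈ subs, ev g w • x0 = x0) : ∀ s ∈ seeds, SeedOk g x0 s :=
  have h : PwHyp g x0 (BT.get tab) 66048 3 rels subs :=
    ⟨he, by decide +kernel, hg, hs, by decide +kernel⟩
  chkSeeds_sound h (chkSteps_sound h (allF_one _ _ _) pw0) sd

noncomputable def n0 : Net :=
  Net.cons 1 (nat_lit 0x5) <|
  Net.cons 2 (nat_lit 0x300330) <|
  Net.cons 4 (nat_lit 0xf000) <|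
  Net.nil

noncomputable def n1 : Net :=
  Net.cons 1 (nat_lit 0x1000) <|
  Net.cons 2 (nat_lit 0x201020) <|
  Net.cons 4 (nat_lit 0x200) <|
  Net.cons 8 (nat_lit 0x20) <|
  Net.cons 4 (nat_lit 0x80e08) <|
  Net.cons 2 (nat_lit 0x201021) <|
  Net.cons 1 (nat_lit 0x104111) <|
  Net.nil

noncomputable def n2 : Net :=
  Net.cons 1 (nat_lit 0x104104) <|
  Net.cons 2 (nat_lit 0x203210) <|
  Net.cons 4 (nat_lit 0x800) <|
  Net.cons 8 (nat_lit 0x80) <|
  Net.cons 4 (nat_lit 0x80e04) <|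
  Net.cons 2 (nat_lit 0x203212) <|
  Net.cons 1 (nat_lit 0x1015) <|
  Net.nil

noncomputable def nets : List Net := [n0, n1, n2]

theorem ok : netsOk 24 nets = true := by decide +kernel

theorem id0 : ∀ r ∈ rels, ev (PP nets) r = 1 :=
  ev_eq_one_of_chkId (L := 5) ok (by decide) (by decide +kernel)

theorem hP : ∀ r ∈ rels, ev (PP nets) r = 1 := id0

noncomputable def K0 : ℕ := (joinL 24 [(nat_lit 0xcf0cca),
  (nat_lit 0x20a220),
  (nat_lit 0x105114)])

theorem df : chkDef nets 24 0 rels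
  (joinL 24 [(nat_lit 0x30f335),
  (nat_lit 0x80c89),
  (nat_lit 0x80c88)])
  (nat_lit 0x1000000020000000100000002000000010000000300000001000000020000000100000003000000010000000200000001000000030000000100000002000000010000000300000001) 19 K0 = true := by decide +kernel

theorem dd0 : chkDed nets 24 0 rels seeds
  (nat_lit 0x2000000040000000100000804000000080000080400000003000000050000000700000804000018120000080400007812000008040000080a000008040000000800000804) 18 K0 (ivl 0 72) = true := by decide +kernel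

theorem est {G X : Type*} [Group G] [MulAction G X] {g : ℕ → G} {x0 : X} (he : g 255 = 1)
    (hg : ∀ r ∈ rels, ev g r = 1) (hs : ∀ w ∈ subs, ev g w • x0 = x0) :
    ESt g nets 24 x0 0 (ivl 0 72) :=
  have h := seedsOk he hg hs
  have hb : 0 < 24 := by decide
  dedPhase_sound ok hb hg hP h dd0
    (defPhase_sound x0 ok hg hP df)

theorem fin : chkFin nets 24 0 (List.range 3) 0 24 (ivl 0 72) = true := by decide +kernel

theorem inv : chkInv rels (List.range 3) = true := by decide +kernel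

theorem relIndex_le {G : Type*} [Group G] {g : ℕ → G} (he : g 255 = 1)
    (hg : ∀ r ∈ rels, ev g r = 1) {H : Subgroup G} (hs : ∀ w ∈ subs, ev g w ∈ H) :
    H.relIndex (genL g (List.range 3)) ≠ 0 ∧ H.relIndex (genL g (List.range 3)) ≤ 24 :=
  relIndex_le_of_est ok hg inv fin (est he hg fun w hw => (smul_basePt_eq_iff H _).2 (hs w hw))

theorem mem {G : Type*} [Group G] {g : ℕ → G} (he : g 255 = 1)
    (hg : ∀ r ∈ rels, ev g r = 1) {φ : G →* Perm ℕ} (hφ : ∀ x < 3, φ (g x) = PP nets x) :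
    ∀ a ∈ genL g (List.range 3), φ a 0 = 0 → a ∈ genW g subs := fun _ ha h =>
  mem_of_est ok hg inv fin (est he hg fun _ hw => (smul_basePt_eq_iff _ _).2 (mem_genW g hw)) φ
    (fun x hx => hφ x (List.mem_range.1 hx)) ha h

end Cfsg.Agent.Spor.JJ4d
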