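import Cfsg.Agent.Spor.Act

/-! Coset enumeration L371: generators abcdef of L37 over a,b,c,d,e (generated certificate, helper23). -/

set_option Elab.async false
set_option maxRecDepth 100000
set_option exponentiation.threshold 100000

namespace Cfsg.Agent.Spor.JL371

open Equiv

def rels : List (List ℕ) := [[], [0, 1], [1, 0], [2, 3], [3, 2], [4, 5], [5, 4], [6, 6], [7, 7], [8, 9], [9, 8], [4, 4, 4], [0, 2, 1, 3], [0, 0, 4, 1, 5], [0, 7, 1, 7], [0, 6, 0, 6], [2, 2, 5, 3, 4], [3, 4, 7, 5, 7, 3], [0, 3, 5, 6, 5, 6, 5], [6, 7, 6, 7], [8, 5, 1, 6, 5, 9, 4, 7, 3, 0], [6, 8, 6, 8], [4, 9, 4, 9, 4, 9], [8, 8, 8]]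

def subs : List (List ℕ) := [[0], [2], [4], [6], [7]]

noncomputable def tab : BT := (BT.leaf (nat_lit 0x7000000000000000600000000000000040000000000000002000000000000000000000000000000ff00000000000000))

theorem pw0 : chkSteps (BT.get tab) 37945458656048228532225 10 rels subs
  [(nat_lit 0x2),
  (nat_lit 0x6),
  (nat_lit 0xa),
  (nat_lit 0xe),
  (nat_lit 0x12)] 1 6 = true := by decide +kernel

def seeds : List Seed := [([], 0, []), ([], 2, []), ([], 4, []), ([], 6, []), ([], 7, [])]

theorem sd : chkSeeds (BT.get tab) 37945458656048228532225 10 6 seeds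
  [(nat_lit 0x200000001),
  (nat_lit 0x400000001),
  (nat_lit 0x600000001),
  (nat_lit 0x800000001),
  (nat_lit 0xa00000001)] = true := by decide +kernel

theorem seedsOk {G X : Type*} [Group G] [MulAction G X] {g : ℕ → G} {x0 : X} (he : g 255 = 1)
    (hg : ∀ r ∈ rels, ev g r = 1) (hs : ∀ w ∈ subs, ev g w • x0 = x0) : ∀ s ∈ seeds, SeedOk g x0 s :=
  have h : PwHyp g x0 (BT.get tab) 37945458656048228532225 10 rels subs :=
    ⟨he, by decide +kernel, hg, hs, by decide +kernel⟩
  chkSeeds_sound h (chkSteps_sound h (allF_one _ _ _) pw0) sd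

noncomputable def n0 : Net :=
  Net.cons 1 (nat_lit 0x40150111004050) <|
  Net.cons 2 (nat_lit 0x1312323100020) <|
  Net.cons 4 (nat_lit 0x2000309080800) <|
  Net.cons 8 (nat_lit 0x8a000b0009) <|
  Net.cons 16 (nat_lit 0xd00001600) <|
  Net.cons 32 (nat_lit 0x6b609) <|
  Net.cons 16 (nat_lit 0x4400003469) <|
  Net.cons 8 (nat_lit 0xcc00400015) <|
  Net.cons 4 (nat_lit 0x6060a0c0b0a08) <|
  Net.cons 2 (nat_lit 0x1211012201112) <|
  Net.cons 1 (nat_lit 0x44051515415500) <|
  Net.nil

noncomputable def n1 : Net :=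
  Net.cons 1 (nat_lit 0x44051515415500) <|
  Net.cons 2 (nat_lit 0x22013230023330) <|
  Net.cons 4 (nat_lit 0xe0e0804090800) <|
  Net.cons 8 (nat_lit 0x6200400001) <|
  Net.cons 16 (nat_lit 0x2500009400) <|
  Net.cons 32 (nat_lit 0x2d9e00) <|
  Net.cons 16 (nat_lit 0x4400001ce1) <|
  Net.cons 8 (nat_lit 0x2a002d0035) <|
  Net.cons 4 (nat_lit 0xa020b01000002) <|
  Net.cons 2 (nat_lit 0x23131101320202) <|
  Net.cons 1 (nat_lit 0x40150111004050) <|
  Net.nil

noncomputable def n2 : Net :=
  Net.cons 1 (nat_lit 0x41440104004044) <|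
  Net.cons 2 (nat_lit 0x1230130231300) <|
  Net.cons 4 (nat_lit 0x903070e080200) <|
  Net.cons 8 (nat_lit 0x4200660000) <|
  Net.cons 16 (nat_lit 0x9700004000) <|
  Net.cons 32 (nat_lit 0x974000) <|
  Net.cons 16 (nat_lit 0x6500005c70) <|
  Net.cons 8 (nat_lit 0xcf004e0074) <|
  Net.cons 4 (nat_lit 0xb030a0a04050a) <|
  Net.cons 2 (nat_lit 0x3112312232012) <|
  Net.cons 1 (nat_lit 0x45550550114544) <|
  Net.nil

noncomputable def n3 : Net :=
  Net.cons 1 (nat_lit 0x45550550114544) <|
  Net.cons 2 (nat_lit 0x1130312012010) <|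
  Net.cons 4 (nat_lit 0x30b02080e0500) <|
  Net.cons 8 (nat_lit 0x4b00680050) <|
  Net.cons 16 (nat_lit 0x1100004400) <|
  Net.cons 32 (nat_lit 0x234410) <|
  Net.cons 16 (nat_lit 0x6b00007c54) <|
  Net.cons 8 (nat_lit 0x640042000c) <|
  Net.cons 4 (nat_lit 0x109070e0a020a) <|
  Net.cons 2 (nat_lit 0x1212330211120) <|
  Net.cons 1 (nat_lit 0x41440104004044) <|
  Net.nil

noncomputable def n4 : Net :=
  Net.cons 1 (nat_lit 0x14510110555500) <|
  Net.cons 2 (nat_lit 0x11120012303000) <|
  Net.cons 4 (nat_lit 0x70601020a0a00) <|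
  Net.cons 8 (nat_lit 0x23004d0084) <|
  Net.cons 16 (nat_lit 0x4000008600) <|
  Net.cons 32 (nat_lit 0x619700) <|
  Net.cons 16 (nat_lit 0xf4000094dc) <|
  Net.cons 8 (nat_lit 0x2100850060) <|
  Net.cons 4 (nat_lit 0xb0a080c020e0e) <|
  Net.cons 2 (nat_lit 0x21202132333220) <|
  Net.cons 1 (nat_lit 0x40451550100500) <|
  Net.nil

noncomputable def n5 : Net :=
  Net.cons 1 (nat_lit 0x40451550100500) <|
  Net.cons 2 (nat_lit 0x202312013000) <|
  Net.cons 4 (nat_lit 0x7060602060000) <|
  Net.cons 8 (nat_lit 0xf00450008) <|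
  Net.cons 16 (nat_lit 0xa00005000) <|
  Net.cons 32 (nat_lit 0xb7500) <|
  Net.cons 16 (nat_lit 0x7200006c70) <|
  Net.cons 8 (nat_lit 0x27006b0046) <|
  Net.cons 4 (nat_lit 0x10a0f0e06040e) <|
  Net.cons 2 (nat_lit 0x33320110103032) <|
  Net.cons 1 (nat_lit 0x14510110555500) <|
  Net.nil

noncomputable def n6 : Net :=
  Net.cons 1 (nat_lit 0x54100410044104) <|
  Net.cons 2 (nat_lit 0x2012231000000) <|
  Net.cons 4 (nat_lit 0x7000a01080b00) <|
  Net.cons 8 (nat_lit 0x2c00e30060) <|
  Net.cons 16 (nat_lit 0x200006000) <|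
  Net.cons 32 (nat_lit 0x36a00) <|
  Net.cons 16 (nat_lit 0x76000061e0) <|
  Net.cons 8 (nat_lit 0xac00fb00d4) <|
  Net.cons 4 (nat_lit 0x7010a01080b00) <|
  Net.cons 2 (nat_lit 0x2012311020222) <|
  Net.cons 1 (nat_lit 0x54100410044104) <|
  Net.nil

noncomputable def n7 : Net :=
  Net.cons 1 (nat_lit 0x15015044444104) <|
  Net.cons 2 (nat_lit 0x2023021100100) <|
  Net.cons 4 (nat_lit 0x90c0e05040900) <|
  Net.cons 8 (nat_lit 0xe3000f0008) <|
  Net.cons 16 (nat_lit 0x400000e00) <|
  Net.cons 32 (nat_lit 0x56e00) <|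
  Net.cons 16 (nat_lit 0xab00002c88) <|
  Net.cons 8 (nat_lit 0xe700fb00bc) <|
  Net.cons 4 (nat_lit 0xe0b0c05060b00) <|
  Net.cons 2 (nat_lit 0x13133011300322) <|
  Net.cons 1 (nat_lit 0x15015044444104) <|
  Net.nil

noncomputable def n8 : Net :=
  Net.cons 1 (nat_lit 0x41155110440044) <|
  Net.cons 2 (nat_lit 0x21300213303000) <|
  Net.cons 4 (nat_lit 0xf040f01040000) <|
  Net.cons 8 (nat_lit 0x8700330080) <|
  Net.cons 16 (nat_lit 0x100000c200) <|
  Net.cons 32 (nat_lit 0xb9f200) <|
  Net.cons 16 (nat_lit 0xaf00003440) <|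
  Net.cons 8 (nat_lit 0xb2007c0094) <|
  Net.cons 4 (nat_lit 0xc0c0809030304) <|
  Net.cons 2 (nat_lit 0x2230000220012) <|
  Net.cons 1 (nat_lit 0x451001040105) <|
  Net.nil

noncomputable def n9 : Net :=
  Net.cons 1 (nat_lit 0x55104554515450) <|
  Net.cons 2 (nat_lit 0x23312202332000) <|
  Net.cons 4 (nat_lit 0xd0d0f05000200) <|
  Net.cons 8 (nat_lit 0x19000700c8) <|
  Net.cons 16 (nat_lit 0xc500000900) <|
  Net.cons 32 (nat_lit 0xcd5b00) <|
  Net.cons 16 (nat_lit 0x380000d220) <|
  Net.cons 8 (nat_lit 0xf800f900e0) <|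
  Net.cons 4 (nat_lit 0x4090403030900) <|
  Net.cons 2 (nat_lit 0x30122301101201) <|
  Net.cons 1 (nat_lit 0x14400445115511) <|
  Net.nil

noncomputable def nets : List Net := [n0, n1, n2, n3, n4, n5, n6, n7, n8, n9]

theorem ok : netsOk 56 nets = true := by decide +kernel

theorem id0 : ∀ r ∈ rels, ev (PP nets) r = 1 :=
  ev_eq_one_of_chkId (L := 6) ok (by decide) (by decide +kernel)

theorem hP : ∀ r ∈ rels, ev (PP nets) r = 1 := id0

noncomputable def K0 : ℕ := (joinL 56 [(nat_lit 0x2400a010100410),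
  (nat_lit 0x850200004208),
  (nat_lit 0x440010840),
  (nat_lit 0x9000020208020),
  (nat_lit 0xc2205006842100),
  (nat_lit 0x100800421080),
  (nat_lit 0x20080000000),
  0,
  (nat_lit 0x10480101080004),
  (nat_lit 0x8000002)])

theorem df : chkDef nets 56 0 rels
  (joinL 56 [(nat_lit 0x2610e),
  (nat_lit 0x501496),
  (nat_lit 0x12009a),
  (nat_lit 0x28e),
  (nat_lit 0x821e),
  (nat_lit 0x401090a7e),
  (nat_lit 0x2080),
  0,
  (nat_lit 0x41),
  (nat_lit 0x114099)])
  (nat_lit 0x900000001000000030000000500000004000000060000000a0000000100000002000000060000000300000005000000020000000a00000001000000040000000600000007000000020000000300000009) 21 K0 = true := by decide +kernel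

theorem dd0 : chkDed nets 56 0 rels seeds
  (nat_lit 0x1000000030000000500000007000000090000080a00000802000000020000081200000006000008060000000a000000160000080a0000000e0000001200001018000000020000201a0000000a00000018000008020000081a000008020000002e000008120000002a0000000e0000101a0000080a0000181a00000002000008200000080600001820000000060000082c000000120000081e0000000e0000201a0000000a000000160000080a0000081e0000000e00001028000000020000081e0000000e0000001a000008020000101a0000080a0000082400000006000000160000080a000000180000080200001818000000060000001a000008020000081e0000000e0000001a000008020000081a000008020000101a0000080a0000082400000006000018240000000e000008180000080600001818000000060000081e0000000e000000160000080a0000001e000008020000002000000806000008200000080600000818000008060000101800000002000000200000080600001824000030240000000a000010200000000a0000182000000006000020200000080a0000002000000806000000160000080a00001018000000020000181a000000020000201a0000000a0000082000000806000000180000080200001818000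000060000081e0000000e0000082a00000812000018240000000e000028240000000e0000201a0000000a0000002e000008120000001e000008020000081e0000000e000020240000000a0000382800000818000008060000081c0000181c0000001e0000080200000826000010220000001000002022000000100000081c000010220000001000002022000028280000001200000028000008120000082a000008120000082c00000012000000280000081200002828000000120000002c0000080a0000002e000008120000082a000008120000002a0000000e0000082c000000120000182000000006000000160000080a0000002e000008120000001e000008020000002a0000001800000802000008260000082c00000012000020240000000a0000002e0000081200000818000008060000081c000000160000080a0000002a0000002c0000080a000000160000080a00001028000000020000082c0000001200000824000000060000002a0000102800000002000008240000000600003828) 217 K0 (ivl 0 560) = true := by decide +kernel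

theorem est {G X : Type*} [Group G] [MulAction G X] {g : ℕ → G} {x0 : X} (he : g 255 = 1)
    (hg : ∀ r ∈ rels, ev g r = 1) (hs : ∀ w ∈ subs, ev g w • x0 = x0) :
    ESt g nets 56 x0 0 (ivl 0 560) :=
  have h := seedsOk he hg hs
  have hb : 0 < 56 := by decide
  dedPhase_sound ok hb hg hP h dd0
    (defPhase_sound x0 ok hg hP df)

theorem fin : chkFin nets 56 0 (List.range 10) 0 56 (ivl 0 560) = true := by decide +kernel

theorem inv : chkInv rels (List.range 10) = true := by decide +kernel

theorem relIndex_le {G : Type*} [Group G] {g : ℕ → G} (he : g 255 = 1)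
    (hg : ∀ r ∈ rels, ev g r = 1) {H : Subgroup G} (hs : ∀ w ∈ subs, ev g w ∈ H) :
    H.relIndex (genL g (List.range 10)) ≠ 0 ∧ H.relIndex (genL g (List.range 10)) ≤ 56 :=
  relIndex_le_of_est ok hg inv fin (est he hg fun w hw => (smul_basePt_eq_iff H _).2 (hs w hw))

theorem mem {G : Type*} [Group G] {g : ℕ → G} (he : g 255 = 1)
    (hg : ∀ r ∈ rels, ev g r = 1) {φ : G →* Perm ℕ} (hφ : ∀ x < 10, φ (g x) = PP nets x) :
    ∀ a ∈ genL g (List.range 10), φ a 0 = 0 → a ∈ genW g subs := fun _ ha h =>
  mem_of_est ok hg inv fin (est he hg fun _ hw => (smul_basePt_eq_iff _ _).2 (mem_genW g hw)) φ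
    (fun x hx => hφ x (List.mem_range.1 hx)) ha h

end Cfsg.Agent.Spor.JL371
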