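import Cfsg.Agent.Spor.Act

/-! Coset enumeration L372: generators abcdefg of L37 over a,b,c,d,e,f (generated certificate, helper23). -/

set_option Elab.async false
set_option maxRecDepth 100000
set_option exponentiation.threshold 100000

namespace Cfsg.Agent.Spor.JL372

open Equiv

def rels : List (List ℕ) := [[], [0, 1], [1, 0], [2, 3], [3, 2], [4, 5], [5, 4], [6, 6], [7, 7], [8, 9], [9, 8], [10, 10], [4, 4, 4], [0, 2, 1, 3], [0, 0, 4, 1, 5], [0, 7, 1, 7], [0, 6, 0, 6], [2, 2, 5, 3, 4], [3, 4, 7, 5, 7, 3], [0, 3, 5, 6, 5, 6, 5], [6, 7, 6, 7], [8, 5, 1, 6, 5, 9, 4, 7, 3, 0], [6, 8, 6, 8], [4, 9, 4, 9, 4, 9], [8, 8, 8], [10, 6, 4, 10, 1, 8, 4, 3, 0, 5], [10, 8, 4, 2, 1, 10, 5, 9, 7, 2, 1, 5], [10, 4, 3, 9, 1, 10, 3, 9, 3, 4, 6], [10, 2, 10, 9, 10, 3, 0, 0, 9, 0, 5]]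

def subs : List (List ℕ) := [[0], [2], [4], [6], [7], [8]]

noncomputable def tab : BT := (BT.leaf (nat_lit 0x80000000000000007000000000000000600000000000000040000000000000002000000000000000000000000000000ff00000000000000))

theorem pw0 : chkSteps (BT.get tab) 12127203654802339975593985 11 rels subs
  [(nat_lit 0x2),
  (nat_lit 0x6),
  (nat_lit 0xa),
  (nat_lit 0xe),
  (nat_lit 0x12),
  (nat_lit 0x16)] 1 7 = true := by decide +kernel

def seeds : List Seed := [([], 0, []), ([], 2, []), ([], 4, []), ([], 6, []), ([], 7, []), ([], 8, [])]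

theorem sd : chkSeeds (BT.get tab) 12127203654802339975593985 11 7 seeds
  [(nat_lit 0x200000001),
  (nat_lit 0x400000001),
  (nat_lit 0x600000001),
  (nat_lit 0x800000001),
  (nat_lit 0xa00000001),
  (nat_lit 0xc00000001)] = true := by decide +kernel

theorem seedsOk {G X : Type*} [Group G] [MulAction G X] {g : ℕ → G} {x0 : X} (he : g 255 = 1)
    (hg : ∀ r ∈ rels, ev g r = 1) (hs : ∀ w ∈ subs, ev g w • x0 = x0) : ∀ s ∈ seeds, SeedOk g x0 s :=
  have h : PwHyp g x0 (BT.get tab) 12127203654802339975593985 11 rels subs :=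
    ⟨he, by decide +kernel, hg, hs, by decide +kernel⟩
  chkSeeds_sound h (chkSteps_sound h (allF_one _ _ _) pw0) sd

noncomputable def n0 : Net :=
  Net.cons 1 (nat_lit 0x544041104540) <|
  Net.cons 2 (nat_lit 0x2012033131300) <|
  Net.cons 4 (nat_lit 0xd010200080000) <|
  Net.cons 8 (nat_lit 0x100dd00490006) <|
  Net.cons 16 (nat_lit 0x11a00000400) <|
  Net.cons 32 (nat_lit 0x184d02) <|
  Net.cons 16 (nat_lit 0x9c0000d586) <|
  Net.cons 8 (nat_lit 0x1009d00fa0032) <|
  Net.cons 4 (nat_lit 0xd0f0306050300) <|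
  Net.cons 2 (nat_lit 0x2201010300332) <|
  Net.cons 1 (nat_lit 0x140454144104) <|
  Net.nil

noncomputable def n1 : Net :=
  Net.cons 1 (nat_lit 0x140454144104) <|
  Net.cons 2 (nat_lit 0x10223220102110) <|
  Net.cons 4 (nat_lit 0x10d09090900) <|
  Net.cons 8 (nat_lit 0x5700180058) <|
  Net.cons 16 (nat_lit 0x11c0000c000) <|
  Net.cons 32 (nat_lit 0x11cc200) <|
  Net.cons 16 (nat_lit 0x1460000f16c) <|
  Net.cons 8 (nat_lit 0x13000300ec) <|
  Net.cons 4 (nat_lit 0xf0c0c020400) <|
  Net.cons 2 (nat_lit 0x200313113122) <|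
  Net.cons 1 (nat_lit 0x544041104540) <|
  Net.nil

noncomputable def n2 : Net :=
  Net.cons 1 (nat_lit 0x50414510501500) <|
  Net.cons 2 (nat_lit 0x212010332210) <|
  Net.cons 4 (nat_lit 0x8080b010d0000) <|
  Net.cons 8 (nat_lit 0x2300800080) <|
  Net.cons 16 (nat_lit 0x400000400) <|
  Net.cons 32 (nat_lit 0xa61700) <|
  Net.cons 16 (nat_lit 0x2c0000b450) <|
  Net.cons 8 (nat_lit 0xe1003a00c4) <|
  Net.cons 4 (nat_lit 0x809070802080a) <|
  Net.cons 2 (nat_lit 0x210201223000) <|
  Net.cons 1 (nat_lit 0x50015545011010) <|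
  Net.nil

noncomputable def n3 : Net :=
  Net.cons 1 (nat_lit 0x50015545011010) <|
  Net.cons 2 (nat_lit 0x210201223000) <|
  Net.cons 4 (nat_lit 0x8090700020000) <|
  Net.cons 8 (nat_lit 0x31006a0000) <|
  Net.cons 16 (nat_lit 0x3400000400) <|
  Net.cons 32 (nat_lit 0xb60700) <|
  Net.cons 16 (nat_lit 0x1c00007418) <|
  Net.cons 8 (nat_lit 0xf300c00054) <|
  Net.cons 4 (nat_lit 0x8080b0105080a) <|
  Net.cons 2 (nat_lit 0x212010332210) <|
  Net.cons 1 (nat_lit 0x50414510501500) <|
  Net.nil

noncomputable def n4 : Net :=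
  Net.cons 1 (nat_lit 0x400151001010) <|
  Net.cons 2 (nat_lit 0x1101123021010) <|
  Net.cons 4 (nat_lit 0xd04000c0b0200) <|
  Net.cons 8 (nat_lit 0xaa008a0020) <|
  Net.cons 16 (nat_lit 0x490000b600) <|
  Net.cons 32 (nat_lit 0x4bbe00) <|
  Net.cons 16 (nat_lit 0xac00006e68) <|
  Net.cons 8 (nat_lit 0x3c00f3004c) <|
  Net.cons 4 (nat_lit 0x6000c0c030c0a) <|
  Net.cons 2 (nat_lit 0x3023333103332) <|
  Net.cons 1 (nat_lit 0x55001154150450) <|
  Net.nil

noncomputable def n5 : Net :=
  Net.cons 1 (nat_lit 0x55001154150450) <|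
  Net.cons 2 (nat_lit 0x20200111321110) <|
  Net.cons 4 (nat_lit 0xe0a040c030c00) <|
  Net.cons 8 (nat_lit 0x1001d00b20048) <|
  Net.cons 16 (nat_lit 0xe000008400) <|
  Net.cons 32 (nat_lit 0x1a8b640) <|
  Net.cons 16 (nat_lit 0x12e0000fe60) <|
  Net.cons 8 (nat_lit 0x10083008b0064) <|
  Net.cons 4 (nat_lit 0xd060a0401020a) <|
  Net.cons 2 (nat_lit 0x23323311303232) <|
  Net.cons 1 (nat_lit 0x400151001010) <|
  Net.nil

noncomputable def n6 : Net :=
  Net.cons 1 (nat_lit 0x11550000401010) <|
  Net.cons 2 (nat_lit 0x30003103031000) <|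
  Net.cons 4 (nat_lit 0x9080805040100) <|
  Net.cons 8 (nat_lit 0x1000f008a0000) <|
  Net.cons 16 (nat_lit 0xa700004400) <|
  Net.cons 32 (nat_lit 0x1afed40) <|
  Net.cons 16 (nat_lit 0x3f00005250) <|
  Net.cons 8 (nat_lit 0x1008700de0054) <|
  Net.cons 4 (nat_lit 0x1040409080d0e) <|
  Net.cons 2 (nat_lit 0x30003103031022) <|
  Net.cons 1 (nat_lit 0x11550000401010) <|
  Net.nil

noncomputable def n7 : Net :=
  Net.cons 1 (nat_lit 0x40544051110454) <|
  Net.cons 2 (nat_lit 0x12030003100000) <|
  Net.cons 4 (nat_lit 0x806020e0800) <|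
  Net.cons 8 (nat_lit 0x1a00420020) <|
  Net.cons 16 (nat_lit 0x60000e000) <|
  Net.cons 32 (nat_lit 0x4ef600) <|
  Net.cons 16 (nat_lit 0xbc0000e8b0) <|
  Net.cons 8 (nat_lit 0x1b00cb00a8) <|
  Net.cons 4 (nat_lit 0x2060806000e) <|
  Net.cons 2 (nat_lit 0x11230023100000) <|
  Net.cons 1 (nat_lit 0x40544051110454) <|
  Net.nil

noncomputable def n8 : Net :=
  Net.cons 1 (nat_lit 0x1551551540014) <|
  Net.cons 2 (nat_lit 0x22003221121101) <|
  Net.cons 4 (nat_lit 0xb02020d0b0d00) <|
  Net.cons 8 (nat_lit 0x7a001600c0) <|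
  Net.cons 16 (nat_lit 0xb900003000) <|
  Net.cons 32 (nat_lit 0x13f7680) <|
  Net.cons 16 (nat_lit 0x16100001e91) <|
  Net.cons 8 (nat_lit 0x1007b0072009a) <|
  Net.cons 4 (nat_lit 0x60705030f0c0b) <|
  Net.cons 2 (nat_lit 0x12111333000131) <|
  Net.cons 1 (nat_lit 0x405054454100) <|
  Net.nil

noncomputable def n9 : Net :=
  Net.cons 1 (nat_lit 0x405054454100) <|
  Net.cons 2 (nat_lit 0x30133111222311) <|
  Net.cons 4 (nat_lit 0x6070f03050c01) <|
  Net.cons 8 (nat_lit 0x100f0008800a2) <|
  Net.cons 16 (nat_lit 0x10a00008400) <|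
  Net.cons 32 (nat_lit 0x1bedc01) <|
  Net.cons 16 (nat_lit 0x7800003803) <|
  Net.cons 8 (nat_lit 0xe800dd0052) <|
  Net.cons 4 (nat_lit 0x102020d010d0a) <|
  Net.cons 2 (nat_lit 0x21003303303) <|
  Net.cons 1 (nat_lit 0x1551551540014) <|
  Net.nil

noncomputable def n10 : Net :=
  Net.cons 1 (nat_lit 0x1014000054000) <|
  Net.cons 2 (nat_lit 0x311100222000) <|
  Net.cons 4 (nat_lit 0x30d040c080d00) <|
  Net.cons 8 (nat_lit 0x1002400800020) <|
  Net.cons 16 (nat_lit 0x1400) <|
  Net.cons 32 (nat_lit 0x245520) <|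
  Net.cons 16 (nat_lit 0x5100003c88) <|
  Net.cons 8 (nat_lit 0x100a600830034) <|
  Net.cons 4 (nat_lit 0xb0d040c080d00) <|
  Net.cons 2 (nat_lit 0x311100322000) <|
  Net.cons 1 (nat_lit 0x1114000054001) <|
  Net.nil

noncomputable def nets : List Net := [n0, n1, n2, n3, n4, n5, n6, n7, n8, n9, n10]

theorem ok : netsOk 57 nets = true := by decide +kernel

theorem id0 : ∀ r ∈ rels, ev (PP nets) r = 1 :=
  ev_eq_one_of_chkId (L := 6) ok (by decide) (by decide +kernel)

theorem hP : ∀ r ∈ rels, ev (PP nets) r = 1 := id0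

noncomputable def K0 : ℕ := (joinL 57 [(nat_lit 0x10000880010008),
  (nat_lit 0x80440000204),
  (nat_lit 0x5000020820),
  (nat_lit 0x2012000400410),
  (nat_lit 0x808002880080),
  (nat_lit 0x8000001041040),
  (nat_lit 0x140104002000),
  0,
  (nat_lit 0x181200210000000),
  (nat_lit 0x60000008104100),
  (nat_lit 0x4420020208002)])

theorem df : chkDef nets 57 0 rels
  (joinL 57 [(nat_lit 0x1146),
  (nat_lit 0x100014a),
  (nat_lit 0x80616),
  (nat_lit 0x30e),
  (nat_lit 0x10002e),
  (nat_lit 0x423a),
  (nat_lit 0x1864),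
  0,
  (nat_lit 0x500002e),
  (nat_lit 0xc0041060),
  (nat_lit 0x8142d)])
  (nat_lit 0xb000000010000000300000003000000040000000500000007000000090000000100000006000000020000000a0000000b00000004000000020000000300000005000000060000000300000009000000050000000a0000000b) 23 K0 = true := by decide +kernel

theorem dd0 : chkDed nets 57 0 rels seeds
  (nat_lit 0x1000000030000000500000007000000090000000b0000080a000008120000001600000802000000060000080600000012000000020000000a0000000e000000180000080a0000001a000008020000101a0000000200000030000008120000101a0000000200000020000008020000002c0000000e0000101c0000080a0000181c000000020000201c0000000a0000182200000006000008320000000e000038320000000600001036000000060000103800000016000000180000080a0000002000000802000000220000080600000026000008020000181a00000006000008200000000e0000001c000008020000081c000008020000101c0000080a0000403600000006000008200000000e0000002200000806000000180000080a0000101a000000020000181a000000060000001c000008020000081c00000802000010220000000a000020220000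080a0000082200000806000000180000080a0000081a000008060000101c0000080a0000181c000000020000201c0000000a000028260000000e000030260000000a000000180000080a0000101a000000020000002000000802000008200000000e000008220000080600000020000008020000101c0000080a000020220000080a00000826000000060000001a000008020000002200000806000028260000000e000010340000080a00000020000008020000001c000008020000182200000006000018260000000e000028260000000e0000081a00000806000008200000000e0000082c00000812000020220000080a00000030000008120000181c00000002000030260000000a0000081a000008060000002000000802000008200000101c0000080a0000181a00000006000010260000000a00000032000000160000183200000016000040380000001200004034000018220000000600000030000008120000081e0000181e000008280000081c0000080200002024000000100000081e000010240000001000002024000000100000002a000008120000282a000000120000002c0000000e00000030000008120000082c000008120000002000000802000008280000181a000000060000101c0000080a0000082e000000120000002a000008120000002c0000002e0000080a0000003000000812000000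2c0000002e0000080a000000180000080a0000003200000016000008360000080a00002834000000160000182200000006000000180000080a0000081c00000802000018260000000e0000081e0000001a000008020000082e000000120000183200000016000000320000001600000034000000160000102a000000020000002c0000283600000016000020380000001600000838000008060000183800000012000050380000000a0000083400000812000030340000000a0000181c00000002000018220000000600001024000000300000081200001826000000180000080a000018220000000600000826000000060000002c0000102a000000020000382a00000036) 276 K0 (ivl 0 627) = true := by decide +kernel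

theorem est {G X : Type*} [Group G] [MulAction G X] {g : ℕ → G} {x0 : X} (he : g 255 = 1)
    (hg : ∀ r ∈ rels, ev g r = 1) (hs : ∀ w ∈ subs, ev g w • x0 = x0) :
    ESt g nets 57 x0 0 (ivl 0 627) :=
  have h := seedsOk he hg hs
  have hb : 0 < 57 := by decide
  dedPhase_sound ok hb hg hP h dd0
    (defPhase_sound x0 ok hg hP df)

theorem fin : chkFin nets 57 0 (List.range 11) 0 57 (ivl 0 627) = true := by decide +kernel

theorem inv : chkInv rels (List.range 11) = true := by decide +kernel

theorem relIndex_le {G : Type*} [Group G] {g : ℕ → G} (he : g 255 = 1)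
    (hg : ∀ r ∈ rels, ev g r = 1) {H : Subgroup G} (hs : ∀ w ∈ subs, ev g w ∈ H) :
    H.relIndex (genL g (List.range 11)) ≠ 0 ∧ H.relIndex (genL g (List.range 11)) ≤ 57 :=
  relIndex_le_of_est ok hg inv fin (est he hg fun w hw => (smul_basePt_eq_iff H _).2 (hs w hw))

theorem mem {G : Type*} [Group G] {g : ℕ → G} (he : g 255 = 1)
    (hg : ∀ r ∈ rels, ev g r = 1) {φ : G →* Perm ℕ} (hφ : ∀ x < 11, φ (g x) = PP nets x) :
    ∀ a ∈ genL g (List.range 11), φ a 0 = 0 → a ∈ genW g subs := fun _ ha h =>
  mem_of_est ok hg inv fin (est he hg fun _ hw => (smul_basePt_eq_iff _ _).2 (mem_genW g hw)) φ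
    (fun x hx => hφ x (List.mem_range.1 hx)) ha h

end Cfsg.Agent.Spor.JL372
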