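import Cfsg.Agent.Spor.Act

/-! Coset enumeration Ly5: generators ['b'] of Ly over  (generated certificate, helper23). -/

set_option Elab.async false
set_option maxRecDepth 100000
set_option exponentiation.threshold 100000

namespace Cfsg.Agent.Spor.JLy5

open Equiv

def rels : List (List ℕ) := [[], [0, 1], [1, 0], [0, 0, 0, 0, 0]]

def subs : List (List ℕ) := []

noncomputable def tab : BT := (BT.leaf (nat_lit 0xff00000000000000))

theorem pw0 : chkSteps (BT.get tab) 1 2 rels subs
  [] 1 1 = true := by decide +kernel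

def seeds : List Seed := []

theorem sd : chkSeeds (BT.get tab) 1 2 1 seeds
  [] = true := by decide +kernel

theorem seedsOk {G X : Type*} [Group G] [MulAction G X] {g : ℕ → G} {x0 : X} (he : g 255 = 1)
    (hg : ∀ r ∈ rels, ev g r = 1) (hs : ∀ w ∈ subs, ev g w • x0 = x0) : ∀ s ∈ seeds, SeedOk g x0 s :=
  have h : PwHyp g x0 (BT.get tab) 1 2 rels subs :=
    ⟨he, by decide +kernel, hg, hs, by decide +kernel⟩
  chkSeeds_sound h (chkSteps_sound h (allF_one _ _ _) pw0) sd

noncomputable def n0 : Net :=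
  Net.cons 1 (nat_lit 0x4) <|
  Net.cons 2 (nat_lit 0x1) <|
  Net.cons 4 (nat_lit 0x1) <|
  Net.cons 2 (nat_lit 0x3) <|
  Net.cons 1 (nat_lit 0x1) <|
  Net.nil

noncomputable def n1 : Net :=
  Net.cons 1 (nat_lit 0x1) <|
  Net.cons 2 (nat_lit 0x1) <|
  Net.cons 4 (nat_lit 0x1) <|
  Net.cons 2 (nat_lit 0x3) <|
  Net.cons 1 (nat_lit 0x4) <|
  Net.nil

noncomputable def nets : List Net := [n0, n1]

theorem ok : netsOk 5 nets = true := by decide +kernel

theorem id0 : ∀ r ∈ rels, ev (PP nets) r = 1 :=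
  ev_eq_one_of_chkId (L := 3) ok (by decide) (by decide +kernel)

theorem hP : ∀ r ∈ rels, ev (PP nets) r = 1 := id0

noncomputable def K0 : ℕ := (joinL 5 [(nat_lit 0x14),
  (nat_lit 0xa)])

theorem df : chkDef nets 5 0 rels
  (joinL 5 [(nat_lit 0x3),
  (nat_lit 0x5)])
  (nat_lit 0x1000000010000000200000002) 4 K0 = true := by decide +kernel

theorem dd0 : chkDed nets 5 0 rels seeds
  (nat_lit 0x2000008020000000600000802) 4 K0 (ivl 0 10) = true := by decide +kernel

theorem est {G X : Type*} [Group G] [MulAction G X] {g : ℕ → G} {x0 : X} (he : g 255 = 1)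
    (hg : ∀ r ∈ rels, ev g r = 1) (hs : ∀ w ∈ subs, ev g w • x0 = x0) :
    ESt g nets 5 x0 0 (ivl 0 10) :=
  have h := seedsOk he hg hs
  have hb : 0 < 5 := by decide
  dedPhase_sound ok hb hg hP h dd0
    (defPhase_sound x0 ok hg hP df)

theorem fin : chkFin nets 5 0 (List.range 2) 0 5 (ivl 0 10) = true := by decide +kernel

theorem inv : chkInv rels (List.range 2) = true := by decide +kernel

theorem relIndex_le {G : Type*} [Group G] {g : ℕ → G} (he : g 255 = 1)
    (hg : ∀ r ∈ rels, ev g r = 1) {H : Subgroup G} (hs : ∀ w ∈ subs, ev g w ∈ H) :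
    H.relIndex (genL g (List.range 2)) ≠ 0 ∧ H.relIndex (genL g (List.range 2)) ≤ 5 :=
  relIndex_le_of_est ok hg inv fin (est he hg fun w hw => (smul_basePt_eq_iff H _).2 (hs w hw))

theorem mem {G : Type*} [Group G] {g : ℕ → G} (he : g 255 = 1)
    (hg : ∀ r ∈ rels, ev g r = 1) {φ : G →* Perm ℕ} (hφ : ∀ x < 2, φ (g x) = PP nets x) :
    ∀ a ∈ genL g (List.range 2), φ a 0 = 0 → a ∈ genW g subs := fun _ ha h =>
  mem_of_est ok hg inv fin (est he hg fun _ hw => (smul_basePt_eq_iff _ _).2 (mem_genW g hw)) φ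
    (fun x hx => hφ x (List.mem_range.1 hx)) ha h

end Cfsg.Agent.Spor.JLy5
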