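import Cfsg.Agent.Spor.Act

/-! Coset enumeration Ly96: generators ['a', 'b'] of Ly over b (generated certificate, helper23). -/

set_option Elab.async false
set_option maxRecDepth 100000
set_option exponentiation.threshold 100000

namespace Cfsg.Agent.Spor.JLy96

open Equiv

def rels : List (List ℕ) := [[], [0, 1], [1, 0], [2, 3], [3, 2], [0, 0, 0, 0, 0, 0, 0, 0], [2, 2, 2, 2, 2], [0, 2, 0, 2, 0, 2, 0, 2], [1, 1, 3, 0, 0, 2], [1, 3, 0, 2, 1, 3, 0, 2, 1, 3, 0, 2]]

def subs : List (List ℕ) := [[2]]

noncomputable def tab : BT := (BT.leaf (nat_lit 0x200000000000000ff00000000000000))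

theorem pw0 : chkSteps (BT.get tab) 33751041 4 rels subs
  [(nat_lit 0x2)] 1 2 = true := by decide +kernel

def seeds : List Seed := [([], 2, [])]

theorem sd : chkSeeds (BT.get tab) 33751041 4 2 seeds
  [(nat_lit 0x200000001)] = true := by decide +kernel

theorem seedsOk {G X : Type*} [Group G] [MulAction G X] {g : ℕ → G} {x0 : X} (he : g 255 = 1)
    (hg : ∀ r ∈ rels, ev g r = 1) (hs : ∀ w ∈ subs, ev g w • x0 = x0) : ∀ s ∈ seeds, SeedOk g x0 s :=
  have h : PwHyp g x0 (BT.get tab) 33751041 4 rels subs :=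
    ⟨he, by decide +kernel, hg, hs, by decide +kernel⟩
  chkSeeds_sound h (chkSteps_sound h (allF_one _ _ _) pw0) sd

noncomputable def n0 : Net :=
  Net.cons 1 (nat_lit 0x5414445405545001000004) <|
  Net.cons 2 (nat_lit 0x3020320002113331231200) <|
  Net.cons 4 (nat_lit 0x90a04000b030601080e00) <|
  Net.cons 8 (nat_lit 0x1d00b300a000ab008e0000) <|
  Net.cons 16 (nat_lit 0x9a020000319400000000) <|
  Net.cons 32 (nat_lit 0x8e607537) <|
  Net.cons 64 (nat_lit 0x8e607537) <|
  Net.cons 32 (nat_lit 0xbffe7d37) <|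
  Net.cons 16 (nat_lit 0x93c00000721f0000c600) <|
  Net.cons 8 (nat_lit 0x1d0057007f006b00eb00b4) <|
  Net.cons 4 (nat_lit 0xf040c0d060705030b020904) <|
  Net.cons 2 (nat_lit 0x11300100223032200221102) <|
  Net.cons 1 (nat_lit 0x50515410015554544010111) <|
  Net.nil

noncomputable def n1 : Net :=
  Net.cons 1 (nat_lit 0x5040041540001011545404) <|
  Net.cons 2 (nat_lit 0x2200211112021100112200) <|
  Net.cons 4 (nat_lit 0x2000501010809090e00) <|
  Net.cons 8 (nat_lit 0x5d001100410094008d0000) <|
  Net.cons 16 (nat_lit 0x2d2a0000821700000000) <|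
  Net.cons 32 (nat_lit 0x3c8893b7) <|
  Net.cons 64 (nat_lit 0x3c8893b7) <|
  Net.cons 32 (nat_lit 0xfebf97b7) <|
  Net.cons 16 (nat_lit 0x600a0000a37e000009c0) <|
  Net.cons 8 (nat_lit 0x5d009800ee00cd003500f0) <|
  Net.cons 4 (nat_lit 0xf080c0708090d01090e0508) <|
  Net.cons 2 (nat_lit 0x203100210101223333132101) <|
  Net.cons 1 (nat_lit 0x500141010150000554545551) <|
  Net.nil

noncomputable def n2 : Net :=
  Net.cons 1 (nat_lit 0x1510110504401514544104) <|
  Net.cons 2 (nat_lit 0x1100331032211311101200) <|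
  Net.cons 4 (nat_lit 0xe0d060405090b0b00010800) <|
  Net.cons 8 (nat_lit 0xa9001600da003100a30000) <|
  Net.cons 16 (nat_lit 0x6000000502300000000) <|
  Net.cons 32 (nat_lit 0xe005060) <|
  Net.cons 64 (nat_lit 0xe005060) <|
  Net.cons 32 (nat_lit 0xde375060) <|
  Net.cons 16 (nat_lit 0x46a10000a2de00002f80) <|
  Net.cons 8 (nat_lit 0x48009400c6002200150090) <|
  Net.cons 4 (nat_lit 0xe0506050d020b0f0c09020a) <|
  Net.cons 2 (nat_lit 0x31120313022032110300000) <|
  Net.cons 1 (nat_lit 0x41510054404010040144114) <|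
  Net.nil

noncomputable def n3 : Net :=
  Net.cons 1 (nat_lit 0x51010054404010040144114) <|
  Net.cons 2 (nat_lit 0x31220313022032110300000) <|
  Net.cons 4 (nat_lit 0x2090a0d050a070700010000) <|
  Net.cons 8 (nat_lit 0xac00200052001a000d0000) <|
  Net.cons 16 (nat_lit 0x24400000100e00000000) <|
  Net.cons 32 (nat_lit 0x80402614) <|
  Net.cons 64 (nat_lit 0x80402614) <|
  Net.cons 32 (nat_lit 0xd07f2614) <|
  Net.cons 16 (nat_lit 0x84100002ef70000af00) <|
  Net.cons 8 (nat_lit 0x81002a00e6002d00330018) <|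
  Net.cons 4 (nat_lit 0x2010a0c0d050703000b000a) <|
  Net.cons 2 (nat_lit 0x1200331032211311101200) <|
  Net.cons 1 (nat_lit 0x1010110514401514544104) <|
  Net.nil

noncomputable def nets : List Net := [n0, n1, n2, n3]

theorem ok : netsOk 96 nets = true := by decide +kernel

theorem id0 : ∀ r ∈ rels, ev (PP nets) r = 1 :=
  ev_eq_one_of_chkId (L := 7) ok (by decide) (by decide +kernel)

theorem hP : ∀ r ∈ rels, ev (PP nets) r = 1 := id0

noncomputable def K0 : ℕ := (joinL 96 [(nat_lit 0xe0695a0500a048a2100b4844),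
  (nat_lit 0x10002130001004010820260a),
  (nat_lit 0xf8004c8aa0a921885908120),
  (nat_lit 0x1680025545214462441090)])

theorem df : chkDef nets 96 0 rels
  (joinL 96 [(nat_lit 0x1000000000213002100923b),
  (nat_lit 0x70000000c4b9050651491f5),
  (nat_lit 0xb400277a496a96),
  (nat_lit 0x14c020004c8b9d834f26)])
  (nat_lit 0x1000000010000000100000003000000010000000400000002000000040000000100000003000000020000000400000003000000020000000400000001000000030000000200000004000000010000000200000003) 22 K0 = true := by decide +kernel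

theorem dd0 : chkDed nets 96 0 rels seeds
  (nat_lit 0x1000008060000080200000006000000020000000c0000080600000810000000020000181000000802000008100000000200001810000008020000000e000008020000001000000002000010100000000600001810000008020000080e00000806000020100000080200002810000008060000000a0000080200000010000000020000201000000802000028100000080600000812000000060000000c00000806000008100000000200001810000008020000000e0000080200002010000008020000080e0000080600001010000000060000000c0000080600000010000000020000181000000802000000120000000200000812000000060000000c0000080600000810000000020000181000000802000010100000000600002010000008020000080e00000806) 75 K0 (ivl 0 384) = true := by decide +kernel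

theorem est {G X : Type*} [Group G] [MulAction G X] {g : ℕ → G} {x0 : X} (he : g 255 = 1)
    (hg : ∀ r ∈ rels, ev g r = 1) (hs : ∀ w ∈ subs, ev g w • x0 = x0) :
    ESt g nets 96 x0 0 (ivl 0 384) :=
  have h := seedsOk he hg hs
  have hb : 0 < 96 := by decide
  dedPhase_sound ok hb hg hP h dd0
    (defPhase_sound x0 ok hg hP df)

theorem fin : chkFin nets 96 0 (List.range 4) 0 96 (ivl 0 384) = true := by decide +kernel

theorem inv : chkInv rels (List.range 4) = true := by decide +kernel

theorem relIndex_le {G : Type*} [Group G] {g : ℕ → G} (he : g 255 = 1)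
    (hg : ∀ r ∈ rels, ev g r = 1) {H : Subgroup G} (hs : ∀ w ∈ subs, ev g w ∈ H) :
    H.relIndex (genL g (List.range 4)) ≠ 0 ∧ H.relIndex (genL g (List.range 4)) ≤ 96 :=
  relIndex_le_of_est ok hg inv fin (est he hg fun w hw => (smul_basePt_eq_iff H _).2 (hs w hw))

theorem mem {G : Type*} [Group G] {g : ℕ → G} (he : g 255 = 1)
    (hg : ∀ r ∈ rels, ev g r = 1) {φ : G →* Perm ℕ} (hφ : ∀ x < 4, φ (g x) = PP nets x) :
    ∀ a ∈ genL g (List.range 4), φ a 0 = 0 → a ∈ genW g subs := fun _ ha h =>
  mem_of_est ok hg inv fin (est he hg fun _ hw => (smul_basePt_eq_iff _ _).2 (mem_genW g hw)) φ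
    (fun x hx => hφ x (List.mem_range.1 hx)) ha h

end Cfsg.Agent.Spor.JLy96
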