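import Cfsg.Agent.Spor.Act

/-! Coset enumeration M11C: generators abc of M11 over  (generated certificate, helper23). -/

set_option Elab.async false
set_option maxRecDepth 100000
set_option exponentiation.threshold 100000

namespace Cfsg.Agent.Spor.JM11C

open Equiv

def rels : List (List ℕ) := [[0, 1], [3, 4, 0], [2, 3], [4, 4], [], [0, 0, 0, 0, 0], [1, 2, 1, 1, 3, 0, 3, 1, 2, 1], [4, 2, 0, 4, 1, 2, 0, 2, 1], [1, 0], [3, 2], [2, 2, 2, 2], [1, 2, 1, 3, 1, 2, 0, 3, 3, 1, 3, 1], [4, 0, 2, 0, 3, 0, 4, 3, 0, 0, 3, 3], [0, 4, 0, 4, 0, 4]]

def subs : List (List ℕ) := []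

noncomputable def tab : BT := (BT.leaf (nat_lit 0x30000000000000000000000000000000400000000000000ff00000040000000ff00000000000001ff00000070000000ff00000000000002ff00000090000000ff00000070000002ff0000001000000cff00000030000002ff00000010000005ff000000e000000001000000e000000504000000c000000e03000000e000000200000000c000000701000000c000000203000000900000070000000080000009040000009000000102000000800000010000000070000001000000003000000504000000500000000300000040000000020000003000000001000000200000000000000010000000ff00000000000000))

theorem pw0 : chkSteps (BT.get tab) 17213620225 5 rels subs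
  [0,
  0,
  0,
  0,
  0,
  (nat_lit 0xa0000000700200005),
  0,
  0,
  0,
  (nat_lit 0x120000001100200005),
  (nat_lit 0xe0000001300201005),
  0,
  (nat_lit 0xe00000002000000050000001900400015),
  0,
  (nat_lit 0x1c0000001900202005),
  (nat_lit 0xd00000006000000030000001100000014000000160000001b000000180000001d00901019),
  (nat_lit 0xb0000000d00000006000000050000001d000000200000000a000000050000001d0090101d),
  (nat_lit 0x21000000220000000300301001),
  (nat_lit 0x1d000000220000000700301009),
  (nat_lit 0x1e000000220000000b000000250040000d),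
  (nat_lit 0x270000000c000000250000000f00401001),
  (nat_lit 0xb00000025000000130030000d),
  (nat_lit 0x2b0000001b000000290000000200400001),
  (nat_lit 0x2e0000002b00200011),
  (nat_lit 0xf00000030000000050000002f00400001),
  (nat_lit 0x2d00000016000000300000000900400009),
  (nat_lit 0x32000000130000002c0030000d),
  (nat_lit 0x30000003300201001),
  (nat_lit 0x90000003400200009)] 1 30 = true := by decide +kernel

def seeds : List Seed := [([], 0, []), ([], 1, []), ([], 2, []), ([], 3, []), ([], 4, [])]

theorem sd : chkSeeds (BT.get tab) 17213620225 5 30 seeds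
  [(nat_lit 0x3800000001),
  (nat_lit 0x3900000001),
  (nat_lit 0x3b00000001),
  (nat_lit 0x3a00000001),
  (nat_lit 0x3600000001)] = true := by decide +kernel

theorem seedsOk {G X : Type*} [Group G] [MulAction G X] {g : ℕ → G} {x0 : X} (he : g 255 = 1)
    (hg : ∀ r ∈ rels, ev g r = 1) (hs : ∀ w ∈ subs, ev g w • x0 = x0) : ∀ s ∈ seeds, SeedOk g x0 s :=
  have h : PwHyp g x0 (BT.get tab) 17213620225 5 rels subs :=
    ⟨he, by decide +kernel, hg, hs, by decide +kernel⟩
  chkSeeds_sound h (chkSteps_sound h (allF_one _ _ _) pw0) sd

end Cfsg.Agent.Spor.JM11C
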