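import Cfsg.Agent.Spor.Act

/-! Coset enumeration ONa: generators gabcdef of ON over a,b,c,d,e,f (generated certificate, helper23). -/

set_option Elab.async false
set_option maxRecDepth 100000
set_option exponentiation.threshold 100000

namespace Cfsg.Agent.Spor.JONa

open Equiv

def rels : List (List ℕ) := [[2, 7, 1, 1], [0, 1], [0, 3, 4, 0, 4, 3, 0, 3, 4, 0, 4], [2, 7, 2, 7], [0, 6, 5, 0, 5, 6, 0, 6, 5, 0, 5], [7, 7], [4, 7, 4, 7], [3, 7, 3, 7], [2, 4, 2, 4], [2, 2], [2, 6, 2, 6], [2, 5, 2, 5], [3, 5, 3, 5], [4, 4], [5, 7, 5, 7], [4, 6, 4, 6], [3, 6, 3, 6], [5, 5], [6, 6], [4, 1, 5, 1, 5, 4, 5, 0, 5, 0], [5, 1, 4, 1, 4, 5, 4, 0, 4, 0], [3, 4, 3, 4, 3, 4], [3, 3], [2, 3, 2, 3, 2, 3], [6, 7, 6, 7, 6, 7], [5, 6, 5, 6, 5, 6], [2, 7, 5, 4, 5, 4, 5, 4, 5, 4], [3, 4, 5, 0, 3, 4, 5, 0, 3, 4, 5, 0, 3, 4, 5, 0, 3, 4,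 5, 0], [], [1, 0], [4, 5, 4, 5, 4, 5, 4, 5, 4, 5, 4, 5, 4, 5, 4, 5]]

def subs : List (List ℕ) := [[2], [3], [4], [5], [6], [7]]

def seeds : List Seed := [([], 2, []), ([], 3, []), ([], 4, []), ([], 5, []), ([], 6, []), ([1], 2, [1]), ([1, 6, 5, 4, 0, 6], 0, [1, 6, 5, 0, 4, 6, 5])]

end Cfsg.Agent.Spor.JONa
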