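import Cfsg.Agent.Spor.Act
import Cfsg.Agent.Spor.J.ONaN0
import Cfsg.Agent.Spor.J.ONaD0

/-! Coset enumeration ONa: generators gabcdef of ON over a,b,c,d,e,f (generated certificate, helper23). -/

set_option Elab.async false
set_option maxRecDepth 100000
set_option exponentiation.threshold 100000

namespace Cfsg.Agent.Spor.JONa

open Equiv

theorem pl0_0 : allL [0, 1, 2, 3, 4, 5, 6] (chkPl nets 122760 17 rels) = true := by decide +kernel

theorem pl0_7 : allL [7, 8, 9, 10, 11, 12, 13] (chkPl nets 122760 17 rels) = true := by decide +kernel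

theorem pl0_14 : allL [14, 15, 16] (chkPl nets 122760 17 rels) = true := by decide +kernel

end Cfsg.Agent.Spor.JONa
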