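import Cfsg.Agent.Spor.Act

/-! Coset enumeration Rum0: generators ab of Rum over  (generated certificate, helper23). -/

set_option Elab.async false
set_option maxRecDepth 100000
set_option exponentiation.threshold 100000

namespace Cfsg.Agent.Spor.JRum0

open Equiv

def rels : List (List ℕ) := [[], [0, 1], [1, 0], [2, 3], [3, 2], [2, 2, 2, 2], [2, 2, 0, 3, 3, 1], [1, 2, 0, 0, 3, 1], [0, 0, 0, 0], [0, 2, 0, 3, 0, 2, 0, 3]]

def subs : List (List ℕ) := []

noncomputable def tab : BT := (BT.leaf (nat_lit 0xff00000000000000))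

theorem pw0 : chkSteps (BT.get tab) 33751041 4 rels subs
  [] 1 1 = true := by decide +kernel

def seeds : List Seed := []

theorem sd : chkSeeds (BT.get tab) 33751041 4 1 seeds
  [] = true := by decide +kernel

theorem seedsOk {G X : Type*} [Group G] [MulAction G X] {g : ℕ → G} {x0 : X} (he : g 255 = 1)
    (hg : ∀ r ∈ rels, ev g r = 1) (hs : ∀ w ∈ subs, ev g w • x0 = x0) : ∀ s ∈ seeds, SeedOk g x0 s :=
  have h : PwHyp g x0 (BT.get tab) 33751041 4 rels subs :=
    ⟨he, by decide +kernel, hg, hs, by decide +kernel⟩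
  chkSeeds_sound h (chkSteps_sound h (allF_one _ _ _) pw0) sd

noncomputable def n0 : Net :=
  Net.cons 1 (nat_lit 0x55400504) <|
  Net.cons 2 (nat_lit 0x20232000) <|
  Net.cons 4 (nat_lit 0x70800) <|
  Net.cons 8 (nat_lit 0x1b0000) <|
  Net.cons 16 (nat_lit 0x1bc0) <|
  Net.cons 8 (nat_lit 0x3f0054) <|
  Net.cons 4 (nat_lit 0xf050202) <|
  Net.cons 2 (nat_lit 0x13230212) <|
  Net.cons 1 (nat_lit 0x151105) <|
  Net.nil

noncomputable def n1 : Net :=
  Net.cons 1 (nat_lit 0x55404450) <|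
  Net.cons 2 (nat_lit 0x20003010) <|
  Net.cons 4 (nat_lit 0x80e0000) <|
  Net.cons 8 (nat_lit 0x630000) <|
  Net.cons 16 (nat_lit 0x6390) <|
  Net.cons 8 (nat_lit 0x6f00a8) <|
  Net.cons 4 (nat_lit 0x70a0504) <|
  Net.cons 2 (nat_lit 0x20002131) <|
  Net.cons 1 (nat_lit 0x155051) <|
  Net.nil

noncomputable def n2 : Net :=
  Net.cons 1 (nat_lit 0x11550400) <|
  Net.cons 2 (nat_lit 0x13320110) <|
  Net.cons 4 (nat_lit 0xd030e00) <|
  Net.cons 8 (nat_lit 0x1f0000) <|
  Net.cons 16 (nat_lit 0xcf10) <|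
  Net.cons 8 (nat_lit 0xe0003c) <|
  Net.cons 4 (nat_lit 0x1090e) <|
  Net.cons 2 (nat_lit 0x20012123) <|
  Net.cons 1 (nat_lit 0x41151444) <|
  Net.nil

noncomputable def n3 : Net :=
  Net.cons 1 (nat_lit 0x10551410) <|
  Net.cons 2 (nat_lit 0x101000) <|
  Net.cons 4 (nat_lit 0xd090100) <|
  Net.cons 8 (nat_lit 0x9d0000) <|
  Net.cons 16 (nat_lit 0x4f90) <|
  Net.cons 8 (nat_lit 0x6200b4) <|
  Net.cons 4 (nat_lit 0xb0007) <|
  Net.cons 2 (nat_lit 0x2200323) <|
  Net.cons 1 (nat_lit 0x11401101) <|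
  Net.nil

noncomputable def nets : List Net := [n0, n1, n2, n3]

theorem ok : netsOk 32 nets = true := by decide +kernel

theorem id0 : ∀ r ∈ rels, ev (PP nets) r = 1 :=
  ev_eq_one_of_chkId (L := 5) ok (by decide) (by decide +kernel)

theorem hP : ∀ r ∈ rels, ev (PP nets) r = 1 := id0

noncomputable def K0 : ℕ := (joinL 32 [(nat_lit 0x244804),
  (nat_lit 0x122422),
  (nat_lit 0xa5010290),
  (nat_lit 0x5ac89148)])

theorem df : chkDef nets 32 0 rels
  (joinL 32 [(nat_lit 0xdb),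
  (nat_lit 0xd9),
  (nat_lit 0x68d6f),
  (nat_lit 0x60c27)])
  (nat_lit 0x1000000030000000100000003000000040000000200000003000000040000000100000003) 10 K0 = true := by decide +kernel

theorem dd0 : chkDed nets 32 0 rels seeds
  (nat_lit 0x60000080600000002000008020000000a000008060000100c000008020000000c000008060000200c000000060000000a0000080600000010000008020000000e000000020000180e000008020000001200000802) 22 K0 (ivl 0 128) = true := by decide +kernel

theorem est {G X : Type*} [Group G] [MulAction G X] {g : ℕ → G} {x0 : X} (he : g 255 = 1)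
    (hg : ∀ r ∈ rels, ev g r = 1) (hs : ∀ w ∈ subs, ev g w • x0 = x0) :
    ESt g nets 32 x0 0 (ivl 0 128) :=
  have h := seedsOk he hg hs
  have hb : 0 < 32 := by decide
  dedPhase_sound ok hb hg hP h dd0
    (defPhase_sound x0 ok hg hP df)

theorem fin : chkFin nets 32 0 (List.range 4) 0 32 (ivl 0 128) = true := by decide +kernel

theorem inv : chkInv rels (List.range 4) = true := by decide +kernel

theorem relIndex_le {G : Type*} [Group G] {g : ℕ → G} (he : g 255 = 1)
    (hg : ∀ r ∈ rels, ev g r = 1) {H : Subgroup G} (hs : ∀ w ∈ subs, ev g w ∈ H) :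
    H.relIndex (genL g (List.range 4)) ≠ 0 ∧ H.relIndex (genL g (List.range 4)) ≤ 32 :=
  relIndex_le_of_est ok hg inv fin (est he hg fun w hw => (smul_basePt_eq_iff H _).2 (hs w hw))

theorem mem {G : Type*} [Group G] {g : ℕ → G} (he : g 255 = 1)
    (hg : ∀ r ∈ rels, ev g r = 1) {φ : G →* Perm ℕ} (hφ : ∀ x < 4, φ (g x) = PP nets x) :
    ∀ a ∈ genL g (List.range 4), φ a 0 = 0 → a ∈ genW g subs := fun _ ha h =>
  mem_of_est ok hg inv fin (est he hg fun _ hw => (smul_basePt_eq_iff _ _).2 (mem_genW g hw)) φ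
    (fun x hx => hφ x (List.mem_range.1 hx)) ha h

end Cfsg.Agent.Spor.JRum0
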