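import Cfsg.Agent.Spor.Act

/-! Coset enumeration S441: generators abc of S44 over a,b (generated certificate, helper23). -/

set_option Elab.async false
set_option maxRecDepth 100000
set_option exponentiation.threshold 100000

namespace Cfsg.Agent.Spor.JS441

open Equiv

def rels : List (List ℕ) := [[], [0, 1], [1, 0], [2, 3], [3, 2], [4, 4], [2, 2, 2], [0, 2, 0, 2, 0, 2], [2, 0, 3, 0, 2, 1, 2, 1, 2, 1], [0, 0, 0, 0, 0], [2, 4, 2, 4, 2, 4], [4, 0, 0, 2, 1, 3, 4, 2, 0, 3, 1, 1], [4, 3, 1, 4, 0, 2, 4, 3, 0, 3, 1, 1, 3, 1]]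

def subs : List (List ℕ) := [[0], [2]]

noncomputable def tab : BT := (BT.leaf (nat_lit 0x2000000000000000000000000000000ff00000000000000))

theorem pw0 : chkSteps (BT.get tab) 17213620225 5 rels subs
  [(nat_lit 0x2),
  (nat_lit 0x6)] 1 3 = true := by decide +kernel

def seeds : List Seed := [([], 0, []), ([], 2, [])]

theorem sd : chkSeeds (BT.get tab) 17213620225 5 3 seeds
  [(nat_lit 0x200000001),
  (nat_lit 0x400000001)] = true := by decide +kernel

theorem seedsOk {G X : Type*} [Group G] [MulAction G X] {g : ℕ → G} {x0 : X} (he : g 255 = 1)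
    (hg : ∀ r ∈ rels, ev g r = 1) (hs : ∀ w ∈ subs, ev g w • x0 = x0) : ∀ s ∈ seeds, SeedOk g x0 s :=
  have h : PwHyp g x0 (BT.get tab) 17213620225 5 rels subs :=
    ⟨he, by decide +kernel, hg, hs, by decide +kernel⟩
  chkSeeds_sound h (chkSteps_sound h (allF_one _ _ _) pw0) sd

noncomputable def n0 : Net :=
  Net.cons 1 (nat_lit 0x5505404040010050) <|
  Net.cons 2 (nat_lit 0x132100301213200) <|
  Net.cons 4 (nat_lit 0x405080209020e00) <|
  Net.cons 8 (nat_lit 0x4b000f00240000) <|
  Net.cons 16 (nat_lit 0xd88f00000000) <|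
  Net.cons 32 (nat_lit 0xd88f0000) <|
  Net.cons 16 (nat_lit 0xc3cf00002d40) <|
  Net.cons 8 (nat_lit 0x930049000100f0) <|
  Net.cons 4 (nat_lit 0x50d040f0e0d0c04) <|
  Net.cons 2 (nat_lit 0x333303113221102) <|
  Net.cons 1 (nat_lit 0x1100545111044504) <|
  Net.nil

noncomputable def n1 : Net :=
  Net.cons 1 (nat_lit 0x1100545111044504) <|
  Net.cons 2 (nat_lit 0x1222212013230000) <|
  Net.cons 4 (nat_lit 0x8000c020a090c00) <|
  Net.cons 8 (nat_lit 0xc7004000310000) <|
  Net.cons 16 (nat_lit 0x805b00000000) <|
  Net.cons 32 (nat_lit 0x84db0800) <|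
  Net.cons 16 (nat_lit 0xc7db00005920) <|
  Net.cons 8 (nat_lit 0x4a005b009100b4) <|
  Net.cons 4 (nat_lit 0xc080c07010f0a04) <|
  Net.cons 2 (nat_lit 0x1023101210303212) <|
  Net.cons 1 (nat_lit 0x5505404040010050) <|
  Net.nil

noncomputable def n2 : Net :=
  Net.cons 1 (nat_lit 0x5054510110001000) <|
  Net.cons 2 (nat_lit 0x202002102220320) <|
  Net.cons 4 (nat_lit 0xc090603040400) <|
  Net.cons 8 (nat_lit 0x12008700090000) <|
  Net.cons 16 (nat_lit 0x631400000000) <|
  Net.cons 32 (nat_lit 0x63558000) <|
  Net.cons 16 (nat_lit 0x7b5e00009d00) <|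
  Net.cons 8 (nat_lit 0x30009f00fc0068) <|
  Net.cons 4 (nat_lit 0xd03070609030e) <|
  Net.cons 2 (nat_lit 0x1032212210101002) <|
  Net.cons 1 (nat_lit 0x1400555055111150) <|
  Net.nil

noncomputable def n3 : Net :=
  Net.cons 1 (nat_lit 0x4150000100054410) <|
  Net.cons 2 (nat_lit 0x33001022222010) <|
  Net.cons 4 (nat_lit 0x40008000a010900) <|
  Net.cons 8 (nat_lit 0x700f300620000) <|
  Net.cons 16 (nat_lit 0x588700000000) <|
  Net.cons 32 (nat_lit 0x58a72000) <|
  Net.cons 16 (nat_lit 0x1fc70000e210) <|
  Net.cons 8 (nat_lit 0x5600b10021001c) <|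
  Net.cons 4 (nat_lit 0x406010608030a0a) <|
  Net.cons 2 (nat_lit 0x2003011201302110) <|
  Net.cons 1 (nat_lit 0x500055545515444) <|
  Net.nil

noncomputable def n4 : Net :=
  Net.cons 1 (nat_lit 0x411104501010100) <|
  Net.cons 2 (nat_lit 0x1111021033000100) <|
  Net.cons 4 (nat_lit 0x102000700060000) <|
  Net.cons 8 (nat_lit 0xc400f000020000) <|
  Net.cons 16 (nat_lit 0x9100000000) <|
  Net.cons 32 (nat_lit 0xc4936000) <|
  Net.cons 16 (nat_lit 0xd100001b40) <|
  Net.cons 8 (nat_lit 0xdc00f000020004) <|
  Net.cons 4 (nat_lit 0x102020f00060008) <|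
  Net.cons 2 (nat_lit 0x1111031033000100) <|
  Net.cons 1 (nat_lit 0x411104501010111) <|
  Net.nil

noncomputable def nets : List Net := [n0, n1, n2, n3, n4]

theorem ok : netsOk 64 nets = true := by decide +kernel

theorem id0 : ∀ r ∈ rels, ev (PP nets) r = 1 :=
  ev_eq_one_of_chkId (L := 6) ok (by decide) (by decide +kernel)

theorem hP : ∀ r ∈ rels, ev (PP nets) r = 1 := id0

noncomputable def K0 : ℕ := (joinL 64 [(nat_lit 0x6000424210414408),
  (nat_lit 0x81040500a818a044),
  (nat_lit 0xa09900405021120),
  (nat_lit 0x440083002800890),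
  (nat_lit 0x10b2208940240202)])

theorem df : chkDef nets 64 0 rels
  (joinL 64 [(nat_lit 0x200000440c39b6),
  (nat_lit 0x2800000264a3a),
  (nat_lit 0x40002011860e),
  (nat_lit 0x40020870464e),
  (nat_lit 0x40003a127145)])
  (nat_lit 0x500000001000000030000000100000004000000050000000200000004000000010000000300000005000000020000000400000001000000050000000100000003000000040000000500000002) 20 K0 = true := by decide +kernel

theorem dd0 : chkDed nets 64 0 rels seeds
  (nat_lit 0x10000000300000002000008060000000a00000802000000060000000c000008060000001200000802000008140000000a0000000e000008020000080e000008060000000c000008060000181600000806000018180000000c000008060000000e000008020000281000000002000018180000000a0000001400000806000008140000000a000048180000000600001810000008020000000c0000080600002010000008060000000e0000080200000010000008060000081000000802000028100000000200002016000000020000000e0000080200000012000008020000301600001818000038100000000200004810000000020000001400000806000000180000000a0000001400000806000030160000101800000002000008140000181800003016000008140000001600000814000038180000000600006818000000020000000c00000806000000120000080200000016000000140000080600001016000008020000000c000008060000080e000008060000000c00000806000000120000080200001018000000020000001800000012000008020000080e0000080600000014000008060000081400000810000008020000081600000802000018160000080600003016000000180000000a0000581800000002000000120000080200000014000008060000080e000008060000000c00000806000010180000000200000016)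 130 K0 (ivl 0 320) = true := by decide +kernel

theorem est {G X : Type*} [Group G] [MulAction G X] {g : ℕ → G} {x0 : X} (he : g 255 = 1)
    (hg : ∀ r ∈ rels, ev g r = 1) (hs : ∀ w ∈ subs, ev g w • x0 = x0) :
    ESt g nets 64 x0 0 (ivl 0 320) :=
  have h := seedsOk he hg hs
  have hb : 0 < 64 := by decide
  dedPhase_sound ok hb hg hP h dd0
    (defPhase_sound x0 ok hg hP df)

theorem fin : chkFin nets 64 0 (List.range 5) 0 64 (ivl 0 320) = true := by decide +kernel

theorem inv : chkInv rels (List.range 5) = true := by decide +kernel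

theorem relIndex_le {G : Type*} [Group G] {g : ℕ → G} (he : g 255 = 1)
    (hg : ∀ r ∈ rels, ev g r = 1) {H : Subgroup G} (hs : ∀ w ∈ subs, ev g w ∈ H) :
    H.relIndex (genL g (List.range 5)) ≠ 0 ∧ H.relIndex (genL g (List.range 5)) ≤ 64 :=
  relIndex_le_of_est ok hg inv fin (est he hg fun w hw => (smul_basePt_eq_iff H _).2 (hs w hw))

theorem mem {G : Type*} [Group G] {g : ℕ → G} (he : g 255 = 1)
    (hg : ∀ r ∈ rels, ev g r = 1) {φ : G →* Perm ℕ} (hφ : ∀ x < 5, φ (g x) = PP nets x) :
    ∀ a ∈ genL g (List.range 5), φ a 0 = 0 → a ∈ genW g subs := fun _ ha h =>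
  mem_of_est ok hg inv fin (est he hg fun _ hw => (smul_basePt_eq_iff _ _).2 (mem_genW g hw)) φ
    (fun x hx => hφ x (List.mem_range.1 hx)) ha h

end Cfsg.Agent.Spor.JS441
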