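import Cfsg.Agent.Spor.Act

/-! Coset enumeration S44C: generators abcd of S44 over  (generated certificate, helper23). -/

set_option Elab.async false
set_option maxRecDepth 100000
set_option exponentiation.threshold 100000

namespace Cfsg.Agent.Spor.JS44C

open Equiv

def rels : List (List ℕ) := [[2, 3], [1, 5, 2], [0, 1], [], [5, 5], [2, 0, 3, 0, 2, 1, 2, 1, 2, 1], [4, 4], [2, 2, 2], [0, 2, 0, 2, 0, 2], [2, 4, 2, 4, 2, 4], [0, 5, 1, 4, 0, 5, 1, 4], [5, 1, 5, 3, 0, 5, 2, 4, 1, 4, 1, 1, 3, 1, 1], [1, 0], [3, 2], [0, 0, 0, 0, 0], [4, 0, 0, 2, 1, 3, 4, 2, 0, 3, 1, 1], [4, 3, 1, 4, 0, 2, 4, 3, 0, 3, 1, 1, 3, 1], [5, 0, 2, 1, 1, 3, 5, 2, 0, 0, 3, 1], [5, 0, 3, 1, 2, 0, 5, 1, 3, 0, 2, 1], [5, 2, 1, 4, 3, 0, 3, 5, 0, 2, 4, 0, 3, 1, 1, 3, 1]]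

def subs : List (List ℕ) := []

noncomputable def tab : BT := (BT.leaf (nat_lit 0x400000000000000ff00000000000007020000007000000705000000700000070100000070000007010000000000000005000000000000000200000000000000ff00000030000000ff00000000000002ff00000030000002ff000000b0000000ff00000000000001ff000000b0000001020000002000000b050000003000000003000000300000010100000030000003ff000000800000030300000010000000ff00000040000001030000002000000b00000000b00000010100000080000003020000001000000805000000800000000400000070000000050000004000000202000000400000030300000040000000020000003000000001000000200000000000000010000000ff00000000000000))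

theorem pw0 : chkSteps (BT.get tab) 5514771759105 6 rels subs
  [0,
  0,
  0,
  0,
  (nat_lit 0x6000000090020001d),
  (nat_lit 0x40000000900202005),
  0,
  0,
  (nat_lit 0x100000000300200005),
  (nat_lit 0x60000001100201005),
  0,
  (nat_lit 0x16000000120000001400000006000000030000001200000014000000060000000500903015),
  (nat_lit 0x17000000190000000d00301005),
  (nat_lit 0x90000001a00200001),
  (nat_lit 0xb0000001a0000001200300001),
  (nat_lit 0x150000001e00200009),
  (nat_lit 0x120000001e00200001),
  (nat_lit 0x110000001e00200011),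
  (nat_lit 0x160000002300000021000000060000000500500021),
  (nat_lit 0x230000002100000022000000020000001d0000001700000019000000040000001d0000001700a05015),
  (nat_lit 0x17000000280000000200300009),
  (nat_lit 0x2a000000290020000d),
  (nat_lit 0x260000002c0000000700301001),
  (nat_lit 0x180000002c0000001d0000002b00400001),
  (nat_lit 0x300000002f0020000d),
  (nat_lit 0x70000003200201001),
  (nat_lit 0x250000003200200011),
  (nat_lit 0x50000003100200009),
  (nat_lit 0xe0000003400000036000000390000003500000037000000380000003700000038000000380000003500000038000000380000000f00e0902d),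
  (nat_lit 0x3b0000000e0000003800000037000000390000000f0000003a00702029),
  (nat_lit 0x3c0000003a00200005),
  (nat_lit 0x3e0000000e000000340000000f0000003e0000000e00601025),
  (nat_lit 0xf0000004100200019)] 1 34 = true := by decide +kernel

def seeds : List Seed := [([], 0, []), ([], 1, []), ([], 2, []), ([], 3, []), ([], 4, []), ([], 5, [])]

theorem sd : chkSeeds (BT.get tab) 5514771759105 6 34 seeds
  [(nat_lit 0x3900000001),
  (nat_lit 0x3800000001),
  (nat_lit 0x3400000001),
  (nat_lit 0x3500000001),
  (nat_lit 0x4200000001),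
  (nat_lit 0x3600000001)] = true := by decide +kernel

theorem seedsOk {G X : Type*} [Group G] [MulAction G X] {g : ℕ → G} {x0 : X} (he : g 255 = 1)
    (hg : ∀ r ∈ rels, ev g r = 1) (hs : ∀ w ∈ subs, ev g w • x0 = x0) : ∀ s ∈ seeds, SeedOk g x0 s :=
  have h : PwHyp g x0 (BT.get tab) 5514771759105 6 rels subs :=
    ⟨he, by decide +kernel, hg, hs, by decide +kernel⟩
  chkSeeds_sound h (chkSteps_sound h (allF_one _ _ _) pw0) sd

end Cfsg.Agent.Spor.JS44C
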