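import Cfsg.Agent.Spor.Act

/-! Coset enumeration Th3: generators abcdest of Th over a,b,c,d,e,s (generated certificate, helper23). -/

set_option Elab.async false
set_option maxRecDepth 100000
set_option exponentiation.threshold 100000

namespace Cfsg.Agent.Spor.JTh3

open Equiv

def rels : List (List ℕ) := [[], [0, 0], [1, 1], [2, 2], [3, 3], [4, 4], [5, 6], [6, 5], [7, 8], [8, 7], [0, 1, 0, 1, 0, 1], [0, 4, 0, 4], [1, 2, 1, 2, 1, 2], [1, 3, 1, 3], [1, 4, 1, 4], [0, 3, 2, 3, 2, 3, 2, 3, 2], [2, 4, 2, 4], [3, 4, 3, 4, 3, 4], [1, 2, 3, 4, 1, 2, 3, 4, 1, 2, 3, 4, 1, 2, 3, 4, 1, 2, 3, 4, 1, 2, 3, 4, 1, 2, 3, 4, 1, 2, 3, 4], [5, 5, 5, 5, 5, 5, 5], [6, 0, 5, 0], [6, 1, 5, 1], [6, 2, 5, 2], [5, 3, 5, 3], [4, 6, 4, 6, 6, 4, 5, 5, 5], [7, 7, 7], [8, 0, 7, 0], [8, 1, 7, 1], [8, 2, 7, 2], [8, 3, 7, 3], [8, 4, 7, 4], [8, 5, 7, 6, 6]]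

def subs : List (List ℕ) := [[0], [1], [2], [3], [4], [5]]

noncomputable def tab : BT := (BT.leaf (nat_lit 0x50000000000000004000000000000000300000000000000020000000000000001000000000000000000000000000000ff00000000000000))

theorem pw0 : chkSteps (BT.get tab) 129705083257453936896 9 rels subs
  [(nat_lit 0x2),
  (nat_lit 0x6),
  (nat_lit 0xa),
  (nat_lit 0xe),
  (nat_lit 0x12),
  (nat_lit 0x16)] 1 7 = true := by decide +kernel

def seeds : List Seed := [([], 0, []), ([], 1, []), ([], 2, []), ([], 3, []), ([], 4, []), ([], 5, [])]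

theorem sd : chkSeeds (BT.get tab) 129705083257453936896 9 7 seeds
  [(nat_lit 0x200000001),
  (nat_lit 0x400000001),
  (nat_lit 0x600000001),
  (nat_lit 0x800000001),
  (nat_lit 0xa00000001),
  (nat_lit 0xc00000001)] = true := by decide +kernel

theorem seedsOk {G X : Type*} [Group G] [MulAction G X] {g : ℕ → G} {x0 : X} (he : g 255 = 1)
    (hg : ∀ r ∈ rels, ev g r = 1) (hs : ∀ w ∈ subs, ev g w • x0 = x0) : ∀ s ∈ seeds, SeedOk g x0 s :=
  have h : PwHyp g x0 (BT.get tab) 129705083257453936896 9 rels subs :=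
    ⟨he, by decide +kernel, hg, hs, by decide +kernel⟩
  chkSeeds_sound h (chkSteps_sound h (allF_one _ _ _) pw0) sd

noncomputable def n0 : Net :=
  Net.nil

noncomputable def n1 : Net :=
  Net.nil

noncomputable def n2 : Net :=
  Net.nil

noncomputable def n3 : Net :=
  Net.nil

noncomputable def n4 : Net :=
  Net.nil

noncomputable def n5 : Net :=
  Net.nil

noncomputable def n6 : Net :=
  Net.nil

noncomputable def n7 : Net :=
  Net.cons 1 (nat_lit 0x1) <|
  Net.cons 2 (nat_lit 0x1) <|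
  Net.nil

noncomputable def n8 : Net :=
  Net.cons 2 (nat_lit 0x1) <|
  Net.cons 1 (nat_lit 0x1) <|
  Net.nil

noncomputable def nets : List Net := [n0, n1, n2, n3, n4, n5, n6, n7, n8]

theorem ok : netsOk 3 nets = true := by decide +kernel

theorem id0 : ∀ r ∈ rels, ev (PP nets) r = 1 :=
  ev_eq_one_of_chkId (L := 2) ok (by decide) (by decide +kernel)

theorem hP : ∀ r ∈ rels, ev (PP nets) r = 1 := id0

noncomputable def K0 : ℕ := (joinL 3 [0,
  0,
  0,
  0,
  0,
  0,
  0,
  (nat_lit 0x4),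
  (nat_lit 0x2)])

theorem df : chkDef nets 3 0 rels
  (joinL 3 [0,
  0,
  0,
  0,
  0,
  0,
  0,
  (nat_lit 0x1),
  (nat_lit 0x1)])
  (nat_lit 0x800000009) 2 K0 = true := by decide +kernel

theorem dd0 : chkDed nets 3 0 rels seeds
  (nat_lit 0x1000000030000000500000007000000090000000b0000080c000000100000081000000032000008100000083400001834000008360000183600000838000018380000083a0000183a0000083c0000183c0000083e0000080c0000083e0000080c) 25 K0 (ivl 0 27) = true := by decide +kernel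

theorem est {G X : Type*} [Group G] [MulAction G X] {g : ℕ → G} {x0 : X} (he : g 255 = 1)
    (hg : ∀ r ∈ rels, ev g r = 1) (hs : ∀ w ∈ subs, ev g w • x0 = x0) :
    ESt g nets 3 x0 0 (ivl 0 27) :=
  have h := seedsOk he hg hs
  have hb : 0 < 3 := by decide
  dedPhase_sound ok hb hg hP h dd0
    (defPhase_sound x0 ok hg hP df)

theorem fin : chkFin nets 3 0 (List.range 9) 0 3 (ivl 0 27) = true := by decide +kernel

theorem inv : chkInv rels (List.range 9) = true := by decide +kernel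

theorem relIndex_le {G : Type*} [Group G] {g : ℕ → G} (he : g 255 = 1)
    (hg : ∀ r ∈ rels, ev g r = 1) {H : Subgroup G} (hs : ∀ w ∈ subs, ev g w ∈ H) :
    H.relIndex (genL g (List.range 9)) ≠ 0 ∧ H.relIndex (genL g (List.range 9)) ≤ 3 :=
  relIndex_le_of_est ok hg inv fin (est he hg fun w hw => (smul_basePt_eq_iff H _).2 (hs w hw))

theorem mem {G : Type*} [Group G] {g : ℕ → G} (he : g 255 = 1)
    (hg : ∀ r ∈ rels, ev g r = 1) {φ : G →* Perm ℕ} (hφ : ∀ x < 9, φ (g x) = PP nets x) :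
    ∀ a ∈ genL g (List.range 9), φ a 0 = 0 → a ∈ genW g subs := fun _ ha h =>
  mem_of_est ok hg inv fin (est he hg fun _ hw => (smul_basePt_eq_iff _ _).2 (mem_genW g hw)) φ
    (fun x hx => hφ x (List.mem_range.1 hx)) ha h

end Cfsg.Agent.Spor.JTh3
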