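import Cfsg.Agent.Spor.Act

/-! Coset enumeration U620: generators cdef of U62 over  (generated certificate, helper23). -/

set_option Elab.async false
set_option maxRecDepth 100000
set_option exponentiation.threshold 100000

namespace Cfsg.Agent.Spor.JU620

open Equiv

def rels : List (List ℕ) := [[], [0, 0], [1, 1], [2, 2], [3, 3], [0, 1, 0, 1, 0, 1], [0, 2, 0, 2], [0, 3, 0, 3], [1, 2, 1, 2, 1, 2], [1, 3, 1, 3], [2, 3, 2, 3, 2, 3]]

def subs : List (List ℕ) := []

noncomputable def tab : BT := (BT.leaf (nat_lit 0xff00000000000000))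

theorem pw0 : chkSteps (BT.get tab) 50462976 4 rels subs
  [] 1 1 = true := by decide +kernel

def seeds : List Seed := []

theorem sd : chkSeeds (BT.get tab) 50462976 4 1 seeds
  [] = true := by decide +kernel

theorem seedsOk {G X : Type*} [Group G] [MulAction G X] {g : ℕ → G} {x0 : X} (he : g 255 = 1)
    (hg : ∀ r ∈ rels, ev g r = 1) (hs : ∀ w ∈ subs, ev g w • x0 = x0) : ∀ s ∈ seeds, SeedOk g x0 s :=
  have h : PwHyp g x0 (BT.get tab) 50462976 4 rels subs :=
    ⟨he, by decide +kernel, hg, hs, by decide +kernel⟩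
  chkSeeds_sound h (chkSteps_sound h (allF_one _ _ _) pw0) sd

noncomputable def n0 : Net :=
  Net.cons 1 (nat_lit 0x555555555555555555555555555555) <|
  Net.nil

noncomputable def n1 : Net :=
  Net.cons 1 (nat_lit 0x4045050041510400510400510010) <|
  Net.cons 2 (nat_lit 0x331312223211213120210120212010) <|
  Net.cons 4 (nat_lit 0xb0f0c0b020a05000d06020d0a0000) <|
  Net.cons 8 (nat_lit 0x21004700f100e4001700ae00d8) <|
  Net.cons 16 (nat_lit 0x92000016a10000e42200002c00) <|
  Net.cons 32 (nat_lit 0x90aac30000000001000000) <|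
  Net.cons 64 (nat_lit 0x10fec7c1a00000) <|
  Net.cons 32 (nat_lit 0x57167f00000000bdf78048) <|
  Net.cons 16 (nat_lit 0x6900006ade00009f1900009744) <|
  Net.cons 8 (nat_lit 0x5600c300f2005c00890051000e) <|
  Net.cons 4 (nat_lit 0x303040f050503010a07070e040a03) <|
  Net.cons 2 (nat_lit 0x332321113122123210120210121020) <|
  Net.cons 1 (nat_lit 0x551510505514045155045155045545) <|
  Net.nil

noncomputable def n2 : Net :=
  Net.cons 2 (nat_lit 0x333333333333333333333333333333) <|
  Net.nil

noncomputable def n3 : Net :=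
  Net.cons 2 (nat_lit 0x30030000330300030030030030300) <|
  Net.cons 4 (nat_lit 0x300000c000300030f0c0c000c0000) <|
  Net.cons 8 (nat_lit 0xf003c00cc003000000000000c) <|
  Net.cons 16 (nat_lit 0xf0ff00003cfc00003000) <|
  Net.cons 32 (nat_lit 0xc30c3000000000ff000000) <|
  Net.cons 64 (nat_lit 0xc30f30ff0c0000) <|
  Net.cons 32 (nat_lit 0xc333f000000000ff3ff0c0) <|
  Net.cons 16 (nat_lit 0xf000030cf0000f3330000cff0) <|
  Net.cons 8 (nat_lit 0xff003300f300f0003000c00003) <|
  Net.cons 4 (nat_lit 0xc000003000c000c0f030300030000) <|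
  Net.cons 2 (nat_lit 0x303303333003033303303303303033) <|
  Net.nil

noncomputable def nets : List Net := [n0, n1, n2, n3]

theorem ok : netsOk 120 nets = true := by decide +kernel

theorem id0 : ∀ r ∈ rels, ev (PP nets) r = 1 :=
  ev_eq_one_of_chkId (L := 7) ok (by decide) (by decide +kernel)

theorem hP : ∀ r ∈ rels, ev (PP nets) r = 1 := id0

noncomputable def K0 : ℕ := (joinL 120 [(nat_lit 0xaaaaaa0aa0a0a0aa00a00a00a02022),
  (nat_lit 0x555555055050505500500500501010),
  (nat_lit 0xc00c0c0c00cc0cc0cc0ccccc),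
  (nat_lit 0x300303030033033033030300)])

theorem df : chkDef nets 120 0 rels
  (joinL 120 [(nat_lit 0x555555055050505500500500501011),
  (nat_lit 0xc00c0c0c00cc0cc0cc0ccccf),
  (nat_lit 0x300303030033033033033333),
  (nat_lit 0xf000000f00f0f0ff)])
  (nat_lit 0x10000000300000004000000030000000200000001000000030000000400000003000000020000000100000004000000030000000200000001) 15 K0 = true := by decide +kernel

theorem dd0 : chkDed nets 120 0 rels seeds
  (nat_lit 0x20000000600000004000000080000000e0000000c00000012000008140000080a0000000e00000810000008120000080c0000080e000008140000080a0000081200000810) 18 K0 (ivl 0 480) = true := by decide +kernel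

theorem est {G X : Type*} [Group G] [MulAction G X] {g : ℕ → G} {x0 : X} (he : g 255 = 1)
    (hg : ∀ r ∈ rels, ev g r = 1) (hs : ∀ w ∈ subs, ev g w • x0 = x0) :
    ESt g nets 120 x0 0 (ivl 0 480) :=
  have h := seedsOk he hg hs
  have hb : 0 < 120 := by decide
  dedPhase_sound ok hb hg hP h dd0
    (defPhase_sound x0 ok hg hP df)

theorem fin : chkFin nets 120 0 (List.range 4) 0 120 (ivl 0 480) = true := by decide +kernel

theorem inv : chkInv rels (List.range 4) = true := by decide +kernel

theorem relIndex_le {G : Type*} [Group G] {g : ℕ → G} (he : g 255 = 1)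
    (hg : ∀ r ∈ rels, ev g r = 1) {H : Subgroup G} (hs : ∀ w ∈ subs, ev g w ∈ H) :
    H.relIndex (genL g (List.range 4)) ≠ 0 ∧ H.relIndex (genL g (List.range 4)) ≤ 120 :=
  relIndex_le_of_est ok hg inv fin (est he hg fun w hw => (smul_basePt_eq_iff H _).2 (hs w hw))

theorem mem {G : Type*} [Group G] {g : ℕ → G} (he : g 255 = 1)
    (hg : ∀ r ∈ rels, ev g r = 1) {φ : G →* Perm ℕ} (hφ : ∀ x < 4, φ (g x) = PP nets x) :
    ∀ a ∈ genL g (List.range 4), φ a 0 = 0 → a ∈ genW g subs := fun _ ha h =>
  mem_of_est ok hg inv fin (est he hg fun _ hw => (smul_basePt_eq_iff _ _).2 (mem_genW g hw)) φ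
    (fun x hx => hφ x (List.mem_range.1 hx)) ha h

end Cfsg.Agent.Spor.JU620
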