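import Cfsg.Agent.Spor.Act

/-! Coset enumeration U623: generators cdefghi of U62 over c,d,e,f,h,i (generated certificate, helper23). -/

set_option Elab.async false
set_option maxRecDepth 100000
set_option exponentiation.threshold 100000

namespace Cfsg.Agent.Spor.JU623

open Equiv

def rels : List (List ℕ) := [[], [0, 0], [1, 1], [2, 2], [3, 3], [4, 4], [5, 5], [6, 6], [0, 1, 0, 1, 0, 1], [0, 2, 0, 2], [0, 3, 0, 3], [0, 4, 0, 4], [0, 5, 0, 5], [0, 6, 0, 6], [1, 2, 1, 2, 1, 2], [1, 3, 1, 3], [1, 4, 1, 4], [1, 5, 1, 5, 1, 5], [1, 6, 1, 6], [2, 3, 2, 3, 2, 3], [2, 4, 2, 4], [2, 5, 2, 5], [2, 6, 2, 6], [3, 4, 3, 4, 3, 4], [3, 5, 3, 5], [3, 6, 3, 6], [4, 5, 4, 5], [4, 6, 4, 6], [5, 6, 5, 6, 5, 6], [0, 1, 2, 3, 4, 5, 6, 0, 1, 2, 3, 4, 5, 6, 0, 1, 2, 3, 4, 5, 6, 0, 1, 2, 3, 4, 5, 6, 0, 1, 2, 3, 4, 5, 6, 0, 1, 2, 3, 4, 5, 6, 0, 1, 2, 3, 4, 5, 6, 0, 1, 2, 3, 4, 5, 6, 0, 1, 2, 3, 4, 5, 6]]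

def subs : List (List ℕ) := [[0], [1], [2], [3], [5], [6]]

noncomputable def tab : BT := (BT.leaf (nat_lit 0x60000000000000005000000000000000300000000000000020000000000000001000000000000000000000000000000ff00000000000000))

theorem pw0 : chkSteps (BT.get tab) 1694364648734976 7 rels subs
  [(nat_lit 0x2),
  (nat_lit 0x6),
  (nat_lit 0xa),
  (nat_lit 0xe),
  (nat_lit 0x12),
  (nat_lit 0x16)] 1 7 = true := by decide +kernel

def seeds : List Seed := [([], 0, []), ([], 1, []), ([], 2, []), ([], 3, []), ([], 5, []), ([], 6, [])]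

theorem sd : chkSeeds (BT.get tab) 1694364648734976 7 7 seeds
  [(nat_lit 0x200000001),
  (nat_lit 0x400000001),
  (nat_lit 0x600000001),
  (nat_lit 0x800000001),
  (nat_lit 0xa00000001),
  (nat_lit 0xc00000001)] = true := by decide +kernel

theorem seedsOk {G X : Type*} [Group G] [MulAction G X] {g : ℕ → G} {x0 : X} (he : g 255 = 1)
    (hg : ∀ r ∈ rels, ev g r = 1) (hs : ∀ w ∈ subs, ev g w • x0 = x0) : ∀ s ∈ seeds, SeedOk g x0 s :=
  have h : PwHyp g x0 (BT.get tab) 1694364648734976 7 rels subs :=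
    ⟨he, by decide +kernel, hg, hs, by decide +kernel⟩
  chkSeeds_sound h (chkSteps_sound h (allF_one _ _ _) pw0) sd

noncomputable def n0 : Net :=
  Net.cons 1 (nat_lit 0x40545) <|
  Net.nil

noncomputable def n1 : Net :=
  Net.cons 26 (nat_lit 0x1) <|
  Net.cons 24 (nat_lit 0x8) <|
  Net.cons 1 (nat_lit 0x20020) <|
  Net.cons 3 (nat_lit 0xa00) <|
  Net.nil

noncomputable def n2 : Net :=
  Net.cons 2 (nat_lit 0x3) <|
  Net.cons 1 (nat_lit 0x15010) <|
  Net.nil

noncomputable def n3 : Net :=
  Net.cons 18 (nat_lit 0x3) <|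
  Net.cons 17 (nat_lit 0x10) <|
  Net.cons 9 (nat_lit 0x2a000) <|
  Net.nil

noncomputable def n4 : Net :=
  Net.cons 2 (nat_lit 0x3) <|
  Net.cons 1 (nat_lit 0x5500005) <|
  Net.nil

noncomputable def n5 : Net :=
  Net.cons 2 (nat_lit 0x300c0c0) <|
  Net.nil

noncomputable def n6 : Net :=
  Net.cons 2 (nat_lit 0xc03300) <|
  Net.nil

noncomputable def nets : List Net := [n0, n1, n2, n3, n4, n5, n6]

theorem ok : netsOk 28 nets = true := by decide +kernel

theorem id0 : ∀ r ∈ rels, ev (PP nets) r = 1 :=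
  ev_eq_one_of_chkId (L := 5) ok (by decide) (by decide +kernel)

theorem hP : ∀ r ∈ rels, ev (PP nets) r = 1 := id0

noncomputable def K0 : ℕ := (joinL 28 [(nat_lit 0x80082),
  (nat_lit 0x41049),
  (nat_lit 0x2024),
  (nat_lit 0x400010),
  (nat_lit 0xa00000),
  (nat_lit 0xc030300),
  (nat_lit 0x300cc00)])

theorem df : chkDef nets 28 20 rels
  (joinL 28 [(nat_lit 0x40041),
  (nat_lit 0xc020220),
  (nat_lit 0x1011),
  (nat_lit 0x202000),
  (nat_lit 0x500000),
  (nat_lit 0x300c0c0),
  (nat_lit 0xc03300)])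
  (nat_lit 0x500000004000000030000000200000001000000060000000700000002000000070000000600000003000000070000000600000004000000070000000600000002000000010000000300000005000000070000000600000002) 23 K0 = true := by decide +kernel

theorem dd0 : chkDed nets 28 20 rels seeds
  (nat_lit 0x1000000030000000500000007000000090000000b0000000c0000000e0000000400000002000000060000000a00000008000000180000002c000000240000001a0000002a0000003600000032000000160000083400000836000000280000002000000034000000300000001400000830000008320000001e000008200000081e000000120000082a0000082c000008260000082e0000081c00000814000008120000002a00000828000008240000081e0000002c0000081a00000814000000300000082000000038000000320000002200000816000000340000001c0000081e000000360000001e000000260000003000000024000008200000002800000828000000200000002a0000003400000010000008220000081000000818000000120000002e000000180000082a00000820000000140000081600000016000008100000081e0000001c000008220000081c000008120000082a00000838000008260000083000000832000008240000081a000008360000082c000008340000103a000000060000203a0000000a00000012)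 101 K0 (ivl 0 196) = true := by decide +kernel

theorem est {G X : Type*} [Group G] [MulAction G X] {g : ℕ → G} {x0 : X} (he : g 255 = 1)
    (hg : ∀ r ∈ rels, ev g r = 1) (hs : ∀ w ∈ subs, ev g w • x0 = x0) :
    ESt g nets 28 x0 20 (ivl 0 196) :=
  have h := seedsOk he hg hs
  have hb : 20 < 28 := by decide
  dedPhase_sound ok hb hg hP h dd0
    (defPhase_sound x0 ok hg hP df)

theorem fin : chkFin nets 28 20 (List.range 7) 0 28 (ivl 0 196) = true := by decide +kernel

theorem inv : chkInv rels (List.range 7) = true := by decide +kernel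

theorem relIndex_le {G : Type*} [Group G] {g : ℕ → G} (he : g 255 = 1)
    (hg : ∀ r ∈ rels, ev g r = 1) {H : Subgroup G} (hs : ∀ w ∈ subs, ev g w ∈ H) :
    H.relIndex (genL g (List.range 7)) ≠ 0 ∧ H.relIndex (genL g (List.range 7)) ≤ 28 :=
  relIndex_le_of_est ok hg inv fin (est he hg fun w hw => (smul_basePt_eq_iff H _).2 (hs w hw))

theorem mem {G : Type*} [Group G] {g : ℕ → G} (he : g 255 = 1)
    (hg : ∀ r ∈ rels, ev g r = 1) {φ : G →* Perm ℕ} (hφ : ∀ x < 7, φ (g x) = PP nets x) :
    ∀ a ∈ genL g (List.range 7), φ a 20 = 20 → a ∈ genW g subs := fun _ ha h =>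
  mem_of_est ok hg inv fin (est he hg fun _ hw => (smul_basePt_eq_iff _ _).2 (mem_genW g hw)) φ
    (fun x hx => hφ x (List.mem_range.1 hx)) ha h

end Cfsg.Agent.Spor.JU623
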